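import Cfsg.Agent.H302.RIM.Layer
import Cfsg.Agent.H586.RIM.LayerBP

/-!
# S4816: `LayerBP` (helper302)
-/

set_option autoImplicit false

open Cfsg

namespace Cfsg.Agent.H302.RIM

open Cfsg.Agent.H229.RIM Cfsg.Agent.H665.RIM Cfsg.Agent.H229.NX
open Cfsg.Agent.Schreier.Basic (Sch)

universe u

theorem oneP {p : ℕ} [hp : Fact p.Prime] (him : Cfsg.Agent.H37.NX.IM.{u} p) : OneP.{u} p := by
  intro H V _ _ _ _ _ K N φ _ C hni E hE hX hD hNB
  exact Cfsg.Agent.H586.RIM.false_one him C hni hE hX hD hNB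

theorem layerBP_ne {p : ℕ} [hp : Fact p.Prime] (h3 : p ≠ 3) : LayerBP.{u} p :=
  Cfsg.Agent.H586.RIM.layerBP_five fun h2 hL => false_five h2 hL h3

/-- **layer (B)** -/
theorem layerBP (PP : Pow) {p : ℕ} [hp : Fact p.Prime]
    (hSch : ∀ (S : Type u) [Group S] [Finite S], IsSimpleGroup S → ¬ IsMulCommutative S → Sch S)
    (him : Cfsg.Agent.H37.NX.IM.{u} p)
    (hrow : ∀ (S : Type u) [Group S] [Finite S], IsSimpleGroup S → ¬ IsMulCommutative S → p ∣ Nat.card S →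
      AbSyl p S → NBall.{u} p S ∨ Cfsg.Agent.H325.RIM.Surv p S) : LayerBP.{u} p := by
  have h : LayerBP.{u} p ∨ p = 3 := by
    by_cases h3 : p = 3
    · exact Or.inr h3
    · exact Or.inl (@layerBP_ne.{u} p hp h3)
  rcases h with h | h3
  · exact @h
  · subst h3
    exact @layerBP_of.{u} PP 3 hp hSch (oneP him) hrow

end Cfsg.Agent.H302.RIM
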