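import Cfsg.Agent.H921.NX.Tw

/-!
# S4816, layer (B), `q = p`: generic vectors (port of helper921's H921/NX/Tw with an independent dummy prime `q₀` in `SX`)
-/

set_option autoImplicit false
set_option linter.unusedSectionVars false

open scoped commutatorElement
open Module

namespace Cfsg.Agent.H302.RIM

open Cfsg.Agent.H921.NX
open Cfsg.Agent.H586.NX
open Cfsg.Agent.H20.GWX
open Cfsg.Agent.H684.GW (FD exists_FD)
open Cfsg.Agent.H684.GW.FD

universe u v

section Gen

variable {p q q₀ n : ℕ} {G : Type v} {W : Type u} {Y U : Type*} [Group G] [Finite G] [AddCommGroup W] [Finite W]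
    [DistribMulAction G W] [Group Y] [Finite Y] [AddCommGroup U] [Finite U] [DistribMulAction Y U]
    {L Z : Subgroup G} {π : G →* Y} {a : L →* Multiplicative U} {X : Subgroup Y} {B : U → U → ZMod 2}
    {F : Type u} [Field F] [Finite F] [Module F W]

/-- an isotropic subgroup `T` of order `2 ^ i` with a common eigenspace `E` of order `Q ^ (2 ^ (n - i))` -/
structure Good (L : Subgroup G) (a : L →* Multiplicative U) (S : SX (U := U) p q₀ 2 n X B) (T : AddSubgroup U)
    (E : Submodule F W) (Q i : ℕ) : Prop where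
  iso : ∀ u ∈ T, ∀ v ∈ T, B u v = 0
  cT : Nat.card T = 2 ^ i
  sc : ∀ l : L, Multiplicative.toAdd (a l) ∈ T → ∃ c : F, ∀ w ∈ E, (l : G) • w = c • w
  inv : ∀ l : L, Multiplicative.toAdd (a l) ∈ perp S T → ∀ w ∈ E, (l : G) • w ∈ E
  cE : Nat.card E = Q ^ (2 ^ (n - i))

/-- the eigenspaces have half the dimension -/
theorem half (h : LB (W := W) p q 2 n L Z π a B) (D : FD (W := W) F L) {S : SX (U := U) p q₀ 2 n X B} {T : AddSubgroup U}
    {E : Submodule F W} {Q i : ℕ} (g : Good L a S T E Q i) {l : L} (hl : Multiplicative.toAdd (a l) ∈ perp S T)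
    (hl' : Multiplicative.toAdd (a l) ∉ T) {e : F} (he : ∀ w : W, (l : G) • (l : G) • w = (e * e) • w) :
    Nat.card (eig D E l e) ^ 2 = Nat.card E := by
  have := h.lx.nt
  obtain ⟨v, hv, hv'⟩ := exists_nonperp S hl'
  obtain ⟨m, hm⟩ : ∃ m : L, Multiplicative.toAdd (a m) = v := ⟨rep h.lx v, by rw [a_rep h.lx D]; rfl⟩
  have hB : B (Multiplicative.toAdd (a l)) (Multiplicative.toAdd (a m)) ≠ 0 := by
    rw [hm, B_swap S, neg_ne_zero]
    exact hv'
  obtain ⟨hanti, h2⟩ := anti h D hB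
  rw [← hm] at hv
  have hmi : Multiplicative.toAdd (a m⁻¹) ∈ perp S T := by
    rw [map_inv]
    exact (perp S T).neg_mem hv
  have he0 : e ≠ 0 := by
    rintro rfl
    obtain ⟨w, hw⟩ := exists_ne (0 : W)
    have h3 := he w
    rw [mul_zero, zero_smul, smul_eq_zero_iff_eq, smul_eq_zero_iff_eq] at h3
    exact hw h3
  let f : eig D E l e × eig D E l e → E := fun x =>
    ⟨(x.1 : W) + (m : G) • (x.2 : W), E.add_mem x.1.2.1 (g.inv m hv _ x.2.2.1)⟩
  have hf : Function.Bijective f := by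
    constructor
    · rintro ⟨x1, x2⟩ ⟨y1, y2⟩ hxy
      have h3 : (x1 : W) + (m : G) • (x2 : W) = (y1 : W) + (m : G) • (y2 : W) := congrArg Subtype.val hxy
      have h4 : (x1 : W) - y1 = (m : G) • ((y2 : W) - x2) := by
        rw [smul_sub, sub_eq_sub_iff_add_eq_add, h3, add_comm]
      have h5 : (l : G) • ((x1 : W) - y1) = e • ((x1 : W) - y1) := by
        rw [smul_sub, x1.2.2, y1.2.2, smul_sub]
      have h6 : (l : G) • ((y2 : W) - x2) = e • ((y2 : W) - x2) := by
        rw [smul_sub, x2.2.2, y2.2.2, smul_sub]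
      have h7 : (l : G) • ((x1 : W) - y1) = - (e • ((x1 : W) - y1)) := by
        rw [h4, hanti, h6, D.lin m m.2]
      have h8 : (2 * e) • ((x1 : W) - y1) = 0 := by
        rw [two_mul, add_smul]
        nth_rewrite 1 [← h5]
        rw [h7, neg_add_cancel]
      have h9 : (x1 : W) - y1 = 0 := (smul_eq_zero.1 h8).resolve_left (mul_ne_zero h2 he0)
      have h10 : (y2 : W) - x2 = 0 := by
        rw [h9] at h4
        exact (smul_eq_zero_iff_eq _).1 h4.symm
      exact Prod.ext (Subtype.ext (sub_eq_zero.1 h9)) (Subtype.ext (sub_eq_zero.1 h10).symm)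
    · rintro ⟨v, hv'⟩
      have hlv : (l : G) • v ∈ E := g.inv l hl v hv'
      have hh : e⁻¹ * (e * e) = e := by rw [← mul_assoc, inv_mul_cancel₀ he0, one_mul]
      have hlx : ∀ ε : F, ε * ε = 1 → (l : G) • ((2 : F)⁻¹ • (v + (ε * e⁻¹) • (l : G) • v)) =
          (ε * e) • ((2 : F)⁻¹ • (v + (ε * e⁻¹) • (l : G) • v)) := by
        intro ε hε
        have h3 : ε * e * (ε * e⁻¹) = 1 := by
          calc ε * e * (ε * e⁻¹) = (ε * ε) * (e * e⁻¹) := by ring
            _ = 1 := by rw [hε, mul_inv_cancel₀ he0, one_mul]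
        have h4 : ε * e⁻¹ * (e * e) = ε * e := by rw [mul_assoc, hh]
        rw [D.lin l l.2, smul_comm (ε * e) (2 : F)⁻¹]
        congr 1
        rw [smul_add, D.lin l l.2, he, smul_smul, smul_add, smul_smul, h3, h4, one_smul, add_comm]
      have hmem : ∀ ε : F, (2 : F)⁻¹ • (v + (ε * e⁻¹) • (l : G) • v) ∈ E := fun ε =>
        E.smul_mem _ (E.add_mem hv' (E.smul_mem _ hlv))
      set x : W := (2 : F)⁻¹ • (v + ((1 : F) * e⁻¹) • (l : G) • v) with hxdef
      set y' : W := (2 : F)⁻¹ • (v + ((-1 : F) * e⁻¹) • (l : G) • v) with hydef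
      have hx : (l : G) • x = e • x := (hlx 1 (one_mul 1)).trans (by rw [one_mul e])
      have hy : (l : G) • y' = - (e • y') := (hlx (-1) (by ring)).trans (by rw [neg_one_mul e, neg_smul])
      have hxy : x + y' = v := by
        rw [hxdef, hydef, ← smul_add]
        have h3 : (v + ((1 : F) * e⁻¹) • (l : G) • v) + (v + ((-1 : F) * e⁻¹) • (l : G) • v) = (2 : F) • v := by
          rw [one_mul, neg_one_mul, neg_smul, two_smul]
          abel
        rw [h3, smul_smul, inv_mul_cancel₀ h2, one_smul]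
      have hyE : (m⁻¹ : G) • y' ∈ E := g.inv m⁻¹ hmi y' (hmem (-1))
      have hyl : (l : G) • ((m⁻¹ : G) • y') = e • ((m⁻¹ : G) • y') := by
        have h3 := hanti ((m⁻¹ : G) • y')
        rw [smul_inv_smul, hy] at h3
        have h4 : (m : G) • (l : G) • (m⁻¹ : G) • y' = (m : G) • (e • (m⁻¹ : G) • y') := by
          rw [D.lin m m.2, smul_inv_smul]
          exact (neg_injective h3).symm
        exact MulAction.injective (m : G) h4
      refine ⟨⟨⟨x, hmem 1, hx⟩, ⟨(m⁻¹ : G) • y', hyE, hyl⟩⟩, Subtype.ext ?_⟩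
      show x + (m : G) • (m⁻¹ : G) • y' = v
      rw [smul_inv_smul, hxy]
  rw [← Nat.card_eq_of_bijective f hf, Nat.card_prod, pow_two]

/-- an element with eigenvalues -/
theorem exists_sq (h : LB (W := W) p q 2 n L Z π a B) (D : FD (W := W) F L) (S : SX (U := U) p q₀ 2 n X B)
    {T : AddSubgroup U} {i : ℕ} (iso : ∀ u ∈ T, ∀ v ∈ T, B u v = 0) (hT : Nat.card T = 2 ^ i) (hi : i + 2 ≤ n) :
    ∃ l : L, Multiplicative.toAdd (a l) ∈ perp S T ∧ Multiplicative.toAdd (a l) ∉ T ∧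
      ∃ e : F, ∀ w : W, (l : G) • (l : G) • w = (e * e) • w := by
  classical
  obtain ⟨x, hx, hx'⟩ := exists_mem_perp S hT (by omega)
  obtain ⟨T1, hT1, hc1⟩ := exists_ext S T hx'
  rw [hT, ← pow_succ'] at hc1
  have iso1 := ext_iso S iso hx hT1
  obtain ⟨y, hy, hy'⟩ := exists_mem_perp S hc1 (by omega)
  have h2 : ∀ v : U, v + v = 0 := fun v => by have := S.exp v; rwa [two_smul] at this
  have hxT1 : x ∈ T1 := (hT1 x).2 (Or.inr (by rw [h2]; exact T.zero_mem))
  have hyP : y ∈ perp S T := fun t ht => hy t ((hT1 t).2 (Or.inl ht))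
  have hyT : y ∉ T := fun h3 => hy' ((hT1 y).2 (Or.inl h3))
  have hxyT : x + y ∉ T := fun h3 => hy' ((hT1 y).2 (Or.inr (by rwa [add_comm])))
  have hra : ∀ u : U, Multiplicative.toAdd (a (rep h.lx u)) = u := fun u => by rw [a_rep h.lx D]; rfl
  obtain ⟨d1, hd10, hd1⟩ := sq_scal h D (rep h.lx x)
  obtain ⟨d2, hd20, hd2⟩ := sq_scal h D (rep h.lx y)
  by_cases hs1 : IsSquare d1
  · obtain ⟨e, rfl⟩ := hs1
    exact ⟨rep h.lx x, by rw [hra]; exact hx, by rw [hra]; exact hx', e, hd1⟩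
  by_cases hs2 : IsSquare d2
  · obtain ⟨e, rfl⟩ := hs2
    exact ⟨rep h.lx y, by rw [hra]; exact hyP, by rw [hra]; exact hyT, e, hd2⟩
  have := Fintype.ofFinite F
  have hs3 : IsSquare (d1 * d2) := by
    rw [← quadraticChar_one_iff_isSquare (mul_ne_zero hd10 hd20), map_mul,
      (quadraticChar_neg_one_iff_not_isSquare).2 hs1, (quadraticChar_neg_one_iff_not_isSquare).2 hs2]
    norm_num
  obtain ⟨e, he⟩ := hs3
  have hax : Multiplicative.toAdd (a (rep h.lx x * rep h.lx y)) = x + y := by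
    rw [map_mul, toAdd_mul, hra, hra]
  refine ⟨rep h.lx x * rep h.lx y, by rw [hax]; exact (perp S T).add_mem hx hyP, by rw [hax]; exact hxyT, e, ?_⟩
  have hcom : ∀ w : W, (rep h.lx x : G) • (rep h.lx y : G) • w = (rep h.lx y : G) • (rep h.lx x : G) • w := by
    rw [← h.form, hra, hra, B_swap S, hy x hxT1, neg_zero]
  intro w
  rw [← he, Subgroup.coe_mul, mul_smul, mul_smul, ← hcom ((rep h.lx y : G) • w), hd1, hd2, smul_smul]

/-- one more eigenvalue -/
theorem step (h : LB (W := W) p q 2 n L Z π a B) (D : FD (W := W) F L) {S : SX (U := U) p q₀ 2 n X B} {T : AddSubgroup U}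
    {E : Submodule F W} {Q i : ℕ} (g : Good L a S T E Q i) (hi : i + 1 ≤ n) {l : L}
    (hl : Multiplicative.toAdd (a l) ∈ perp S T)
    (hl' : Multiplicative.toAdd (a l) ∉ T) {e : F} (he : ∀ w : W, (l : G) • (l : G) • w = (e * e) • w) :
    ∃ T' : AddSubgroup U, Good L a S T' (eig D E l e) Q (i + 1) := by
  have := h.lx.nt
  obtain ⟨T', hT', hc'⟩ := exists_ext S T hl'
  have he0 : e ≠ 0 := by
    rintro rfl
    obtain ⟨w, hw⟩ := exists_ne (0 : W)
    have h3 := he w
    rw [mul_zero, zero_smul, smul_eq_zero_iff_eq, smul_eq_zero_iff_eq] at h3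
    exact hw h3
  have h2 : ∀ v : U, v + v = 0 := fun v => by have := S.exp v; rwa [two_smul] at this
  refine ⟨T', ext_iso S g.iso hl hT', by rw [hc', g.cT, pow_succ'], ?_, ?_, ?_⟩
  · intro l' hl1
    rcases (hT' _).1 hl1 with h3 | h3
    · obtain ⟨c, hc⟩ := g.sc l' h3
      exact ⟨c, fun w hw => hc w hw.1⟩
    · rw [← toAdd_mul, ← map_mul] at h3
      obtain ⟨c, hc⟩ := g.sc _ h3
      refine ⟨e⁻¹ * c, fun w hw => ?_⟩
      have h4 := hc w hw.1
      rw [Subgroup.coe_mul, mul_smul, hw.2, D.lin l' l'.2] at h4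
      rw [mul_smul, ← h4, inv_smul_smul₀ he0]
  · intro l' hl1 w hw
    refine ⟨g.inv l' (fun t ht => hl1 t ((hT' t).2 (Or.inl ht))) w hw.1, ?_⟩
    have h3 : B (Multiplicative.toAdd (a l)) (Multiplicative.toAdd (a l')) = 0 := by
      rw [B_swap S, hl1 _ ((hT' _).2 (Or.inr (by rw [h2]; exact T.zero_mem))), neg_zero]
    rw [(h.form l l').1 h3, hw.2, D.lin l' l'.2]
  · have h3 := half h D g hl hl' he
    rw [g.cE] at h3
    have h4 : Q ^ 2 ^ (n - i) = (Q ^ 2 ^ (n - (i + 1))) ^ 2 := by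
      rw [← pow_mul, ← pow_succ]
      congr 2
      omega
    rw [h4] at h3
    exact Nat.pow_left_injective (n := 2) (by norm_num) h3

theorem exists_good (h : LB (W := W) p q 2 n L Z π a B) (D : FD (W := W) F L) (S : SX (U := U) p q₀ 2 n X B) {Q : ℕ}
    (hQ : Nat.card W = Q ^ (2 ^ n)) : ∀ i : ℕ, i + 1 ≤ n → ∃ (T : AddSubgroup U) (E : Submodule F W),
      Good L a S T E Q i := by
  intro i
  induction i with
  | zero =>
    intro _
    refine ⟨⊥, ⊤, ?_, by rw [pow_zero]; exact AddSubgroup.card_bot, ?_, fun _ _ _ _ => Submodule.mem_top, ?_⟩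
    · intro u hu v _
      rw [AddSubgroup.mem_bot] at hu
      rw [hu, B_zero_left S]
    · intro l hl
      rw [AddSubgroup.mem_bot] at hl
      obtain ⟨c, hc⟩ := Z_scal h.lx D ((h.lx.ker l).1 hl)
      exact ⟨c, fun w _ => hc w⟩
    · rw [Nat.sub_zero, ← hQ]
      exact Nat.card_congr (Equiv.subtypeUnivEquiv fun w => Submodule.mem_top)
  | succ i ih =>
    intro hi
    obtain ⟨T, E, g⟩ := ih (by omega)
    obtain ⟨l, hl, hl', e, he⟩ := exists_sq h D S g.iso g.cT (by omega)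
    obtain ⟨T', g'⟩ := step h D g (by omega) hl hl' he
    exact ⟨T', _, g'⟩

/-- the eigenvectors of one element -/
theorem ncard_bad (h : LB (W := W) p q 2 n L Z π a B) (D : FD (W := W) F L) {S : SX (U := U) p q₀ 2 n X B}
    {T : AddSubgroup U} {E : Submodule F W} {Q i : ℕ} (g : Good L a S T E Q i) (hi : i + 1 ≤ n) (hQ : 1 ≤ Q) {u : U}
    (hu : u ∈ perp S T) (hu' : u ∉ T) :
    {w : W | w ∈ E ∧ u ∈ Tw L a w}.ncard ≤ 2 * Q ^ (2 ^ (n - i - 1)) := by
  have := h.lx.nt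
  obtain ⟨l, rfl⟩ : ∃ l : L, Multiplicative.toAdd (a l) = u := ⟨rep h.lx u, by rw [a_rep h.lx D]; rfl⟩
  have hb : ∀ w : W, Multiplicative.toAdd (a l) ∈ Tw L a w → ∃ c : F, (l : G) • w = c • w := by
    intro w hw
    obtain ⟨l', hl', c, hc⟩ := (mem_Tw D).1 hw
    obtain ⟨d, hd⟩ := op_of_a h.lx D (l := l) (l' := l') (Multiplicative.toAdd.injective hl'.symm)
    refine ⟨d * c, ?_⟩
    have h3 := LinearMap.congr_fun hd w
    rw [LinearMap.smul_apply] at h3
    have h4 : (l : G) • w = d • (l' : G) • w := h3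
    rw [h4, hc, smul_smul]
  obtain ⟨d, hd0, hd⟩ := sq_scal h D l
  have hcc : ∀ (w : W) (c : F), w ≠ 0 → (l : G) • w = c • w → d = c * c := by
    intro w c hw hc
    have h3 := hd w
    rw [hc, D.lin l l.2, hc, smul_smul] at h3
    have h4 : (d - c * c) • w = 0 := by rw [sub_smul, h3, sub_self]
    exact sub_eq_zero.1 ((smul_eq_zero.1 h4).resolve_right hw)
  by_cases hsq : ∃ e : F, d = e * e
  · obtain ⟨e, rfl⟩ := hsq
    have hcard : ∀ ε : F, ε * ε = e * e → (eig D E l ε : Set W).ncard = Q ^ (2 ^ (n - i - 1)) := by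
      intro ε hε
      have h3 := half h D g hu hu' (e := ε) (fun w => by rw [hε, hd])
      rw [g.cE] at h3
      have h4 : Q ^ 2 ^ (n - i) = (Q ^ 2 ^ (n - i - 1)) ^ 2 := by
        rw [← pow_mul, ← pow_succ]
        congr 2
        omega
      rw [h4] at h3
      exact Nat.pow_left_injective (n := 2) (by norm_num) h3
    have hsub : {w : W | w ∈ E ∧ Multiplicative.toAdd (a l) ∈ Tw L a w} ⊆
        (eig D E l e : Set W) ∪ (eig D E l (-e) : Set W) := by
      rintro w ⟨hw, hw'⟩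
      obtain ⟨c, hc⟩ := hb w hw'
      by_cases hw0 : w = 0
      · rw [hw0]
        exact Or.inl (Submodule.zero_mem _)
      rcases mul_self_eq_mul_self_iff.1 (hcc w c hw0 hc).symm with rfl | rfl
      · exact Or.inl ⟨hw, hc⟩
      · exact Or.inr ⟨hw, hc⟩
    calc _ ≤ ((eig D E l e : Set W) ∪ (eig D E l (-e) : Set W)).ncard := Set.ncard_le_ncard hsub (Set.toFinite _)
      _ ≤ _ := Set.ncard_union_le _ _
      _ = _ := by rw [hcard e rfl, hcard (-e) (by ring), two_mul]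
  · have hsub : {w : W | w ∈ E ∧ Multiplicative.toAdd (a l) ∈ Tw L a w} ⊆ {0} := by
      rintro w ⟨hw, hw'⟩
      by_contra hw0
      obtain ⟨c, hc⟩ := hb w hw'
      exact hsq ⟨c, hcc w c hw0 hc⟩
    have h3 := Set.ncard_le_ncard hsub (Set.toFinite _)
    rw [Set.ncard_singleton] at h3
    have h4 : 1 ≤ Q ^ 2 ^ (n - i - 1) := Nat.one_le_pow _ _ hQ
    omega

/-- generic vectors, `s = 2` -/
theorem exists_gen (S : SX (U := U) p q₀ 2 n X B) (h : LB (W := W) p q 2 n L Z π a B) {Q : ℕ}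
    (hQ : Nat.card W = Q ^ (2 ^ n)) {i : ℕ} (hi : i + 1 ≤ n) (hb : 2 * (4 ^ (n - i) - 1) < Q ^ (2 ^ (n - i - 1))) :
    ∃ w : W, w ≠ 0 ∧ Nat.card (Tw L a w) = 2 ^ i := by
  classical
  have hx := h.lx
  have := hx.nt
  obtain ⟨F, i1, i2, i3, D⟩ := exists_FD (W := W) hx.nL hx.irr
  have hQ1 : 1 ≤ Q := by
    rcases Nat.eq_zero_or_pos Q with h0 | h0
    · rw [h0, zero_pow (by positivity)] at hQ
      exact absurd hQ Nat.card_pos.ne'
    · exact h0
  obtain ⟨T, E, g⟩ := exists_good h D S hQ i hi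
  have hTP : T ≤ perp S T := fun u hu t ht => g.iso u hu t ht
  let P := perp S T
  let K : AddSubgroup P := T.addSubgroupOf P
  have cK : Nat.card K = 2 ^ i := by
    rw [← g.cT]
    exact Nat.card_congr (AddSubgroup.addSubgroupOfEquivOfLe hTP).toEquiv
  have cP : Nat.card P = 2 ^ (2 * n - i) := card_perp S g.cT (by omega)
  have cPK : Nat.card (P ⧸ K) = 4 ^ (n - i) := by
    have h3 := AddSubgroup.card_eq_card_quotient_mul_card_addSubgroup K
    rw [cP, cK] at h3
    have h4 : (2 : ℕ) ^ (2 * n - i) = 4 ^ (n - i) * 2 ^ i := by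
      rw [show (4 : ℕ) = 2 ^ 2 by norm_num, ← pow_mul, ← pow_add]
      congr 1
      omega
    rw [h4] at h3
    exact (Nat.eq_of_mul_eq_mul_right (by positivity) h3).symm
  have hout : ∀ x : P ⧸ K, x ≠ 0 → ((Quotient.out x : P) : U) ∉ T := by
    intro x hx0 hxT
    apply hx0
    rw [← QuotientAddGroup.out_eq' x, QuotientAddGroup.eq_zero_iff]
    exact hxT
  let bad : P ⧸ K → Set W := fun x => {w | w ∈ E ∧ ((Quotient.out x : P) : U) ∈ Tw L a w}
  have := Fintype.ofFinite (P ⧸ K)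
  have := Fintype.ofFinite W
  obtain ⟨w, hwE, hwb⟩ : ∃ w ∈ E, ∀ x : P ⧸ K, x ≠ 0 → w ∉ bad x := by
    by_contra hcon
    push Not at hcon
    have h3 : (E : Set W).toFinset ⊆ (Finset.univ.erase (0 : P ⧸ K)).biUnion fun x => (bad x).toFinset := by
      intro w hw
      rw [Set.mem_toFinset] at hw
      obtain ⟨x, hx0, hxw⟩ := hcon w hw
      rw [Finset.mem_biUnion]
      exact ⟨x, Finset.mem_erase.2 ⟨hx0, Finset.mem_univ _⟩, Set.mem_toFinset.2 hxw⟩
    have h4 := (Finset.card_le_card h3).trans (Finset.card_biUnion_le_card_mul _ _ (2 * Q ^ (2 ^ (n - i - 1))) (by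
      intro x hx
      rw [← Set.ncard_eq_toFinset_card']
      exact ncard_bad h D g hi hQ1 (Quotient.out x : P).2 (hout x (Finset.ne_of_mem_erase hx))))
    rw [← Set.ncard_eq_toFinset_card', Finset.card_erase_of_mem (Finset.mem_univ _), Finset.card_univ,
      ← Nat.card_eq_fintype_card, cPK] at h4
    have h5 : (E : Set W).ncard = Q ^ (2 ^ (n - i - 1)) * Q ^ (2 ^ (n - i - 1)) := by
      have h6 : (E : Set W).ncard = Q ^ 2 ^ (n - i) := g.cE
      rw [h6, ← pow_add, ← two_mul, ← pow_succ']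
      congr 2
      omega
    rw [h5] at h4
    have h6 : 0 < Q ^ (2 ^ (n - i - 1)) := pow_pos hQ1 _
    have h7 : Q ^ (2 ^ (n - i - 1)) * Q ^ (2 ^ (n - i - 1)) ≤ (2 * (4 ^ (n - i) - 1)) * Q ^ (2 ^ (n - i - 1)) := by
      calc _ ≤ (4 ^ (n - i) - 1) * (2 * Q ^ (2 ^ (n - i - 1))) := h4
        _ = _ := by ring
    exact absurd (Nat.le_of_mul_le_mul_right h7 h6) (by omega)
  have hw0 : w ≠ 0 := by
    rintro rfl
    obtain ⟨x, hx, hx'⟩ := exists_mem_perp S g.cT hi
    have h3 : (QuotientAddGroup.mk (⟨x, hx⟩ : P) : P ⧸ K) ≠ 0 := by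
      intro h4
      rw [QuotientAddGroup.eq_zero_iff] at h4
      exact hx' h4
    apply hwb _ h3
    refine ⟨E.zero_mem, (mem_Tw D).2 ⟨rep h.lx _, by rw [a_rep h.lx D]; rfl, 1, by rw [smul_zero, smul_zero]⟩⟩
  refine ⟨w, hw0, ?_⟩
  obtain ⟨T', hT', iso', -⟩ := exists_T h hw0
  have hTT' : T ≤ T' := by
    intro t ht
    rw [← SetLike.mem_coe, hT', mem_Tw D]
    obtain ⟨c, hc⟩ := g.sc (rep h.lx t) (by rw [a_rep h.lx D]; exact ht)
    exact ⟨rep h.lx t, by rw [a_rep h.lx D]; rfl, c, hc w hwE⟩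
  have hT'T : T' ≤ T := by
    intro v hv
    by_contra hvT
    have hvP : v ∈ P := fun t ht => iso' v hv t (hTT' ht)
    have h3 : (QuotientAddGroup.mk (⟨v, hvP⟩ : P) : P ⧸ K) ≠ 0 := by
      intro h4
      rw [QuotientAddGroup.eq_zero_iff] at h4
      exact hvT h4
    apply hwb _ h3
    refine ⟨hwE, ?_⟩
    rw [← hT', SetLike.mem_coe]
    have h5 : -(Quotient.out (QuotientAddGroup.mk (⟨v, hvP⟩ : P) : P ⧸ K) : P) + ⟨v, hvP⟩ ∈ K := by
      rw [← QuotientAddGroup.eq]
      exact QuotientAddGroup.out_eq' _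
    have h6 : -((Quotient.out (QuotientAddGroup.mk (⟨v, hvP⟩ : P) : P ⧸ K) : P) : U) + v ∈ T := h5
    have h7 := T'.sub_mem hv (hTT' h6)
    have h8 : v - (-((Quotient.out (QuotientAddGroup.mk (⟨v, hvP⟩ : P) : P ⧸ K) : P) : U) + v) =
        ((Quotient.out (QuotientAddGroup.mk (⟨v, hvP⟩ : P) : P ⧸ K) : P) : U) := by abel
    rwa [h8] at h7
  rw [← hT', ← g.cT, le_antisymm hT'T hTT']
  rfl

end Gen

end Cfsg.Agent.H302.RIM
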