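import Cfsg.Agent.H302.RIM.Six
import Cfsg.Agent.H665.RIM.Defs

/-!
# S4816, layer (B), `q = p = 3`: two layers, the count (helper302)

* `exists_fix0`, `card_dvd0` : for `SP0` (`U` not irreducible);
* `num_two` : the numbers;
* `false_two` : `n = n₁ + n₂`, `|Y / X|` divides `|Sp(2 n₁, 2)|`.
-/

set_option autoImplicit false
set_option linter.unusedSectionVars false

open Cfsg
open scoped commutatorElement

namespace Cfsg.Agent.H302.RIM

open Module
open Cfsg.Agent.LieClassical.SympCount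
open Cfsg.Agent.H727.GW
open Cfsg.Agent.H586.NX Cfsg.Agent.H473.NX Cfsg.Agent.H263.RIM
open Cfsg.Agent.H37.NW (P)
open Cfsg.Agent.H994.NX (P1 P2 P3 P4 P5 P6)
open Cfsg.Agent.H662.GW (Ineq)

section

variable {p s n f : ℕ} {Y U : Type*} [Group Y] [Finite Y] [AddCommGroup U] [Finite U] [DistribMulAction Y U]
    {X : Subgroup Y}

theorem card_dvd0 {B : U → U → ZMod s} (h : SP0 p s n f X B) : Nat.card Y ∣ P s n :=
  card_dvd_sp h.hs B h.faith h.exp h.card h.addl h.addr h.alt h.nd h.inv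

theorem exists_fix0 {B : U → U → ZMod s} (h : SP0 p s n f X B) {x : Y} (hx : orderOf x = p) :
    ∃ j : ℕ, 1 ≤ j ∧ j ≤ n ∧ Nat.card {u : U // x • u = u} = s ^ (2 * (n - j)) := by
  haveI := Fact.mk h.hs
  obtain ⟨M, B', ρ, h1, -, h2, h3, h4, h5⟩ := setup B h.faith h.exp h.card h.addl h.addr h.alt h.nd h.inv
  have hxm : (ρ x : U ≃ₗ[ZMod s] U) ∈ isomGroup B' := (ρ x).2
  have hord : orderOf (ρ x : U ≃ₗ[ZMod s] U) = p := by
    rw [Subgroup.orderOf_coe, orderOf_injective _ h2, hx]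
  have hxp : (ρ x : U ≃ₗ[ZMod s] U) ^ p = 1 := hord ▸ pow_orderOf_eq_one _
  have hC := nondeg_fix h4 hxm (cast_ne h.hp h.hs h.hps) hxp
  obtain ⟨k, hk⟩ := even_finrank _ (fixS (ρ x : U ≃ₗ[ZMod s] U)) (B'.restrict _) (fun c => h3 c)
    (fun c hc => Subtype.ext (hC c c.2 fun c' hc' => hc ⟨c', hc'⟩)) rfl
  have hle := Submodule.finrank_le (fixS (ρ x : U ≃ₗ[ZMod s] U))
  have hne : finrank (ZMod s) (fixS (ρ x : U ≃ₗ[ZMod s] U)) ≠ finrank (ZMod s) U := by
    intro heq
    have h6 := Submodule.eq_top_of_finrank_eq heq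
    have h7 : x = 1 := h.faith x fun u => by
      have h8 : u ∈ fixS (ρ x : U ≃ₗ[ZMod s] U) := by rw [h6]; exact Submodule.mem_top
      rw [mem_fixS, h5] at h8
      exact h8
    rw [h7, orderOf_one] at hx
    exact h.hp.one_lt.ne hx
  have hkn : k < n := by omega
  have h6 : Nat.card {u : U // x • u = u} = Nat.card (fixS (ρ x : U ≃ₗ[ZMod s] U)) := by
    refine Nat.card_congr (Equiv.subtypeEquivRight fun u => ?_)
    change x • u = u ↔ (ρ x : U ≃ₗ[ZMod s] U) u = u
    rw [h5]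
  refine ⟨n - k, by omega, by omega, ?_⟩
  rw [h6, Module.natCard_eq_pow_finrank (K := ZMod s), Nat.card_zmod, hk]
  congr 1
  omega

end

/-- the lower bounds -/
theorem low_six {n f j M : ℕ} (hf : 1 ≤ f) (hj : 1 ≤ j) (hjn : j ≤ n) (hn : 6 ≤ n) (hn' : n ≤ 10)
    (hI : Ineq 3 2 n j (3 ^ f) M) : 1000000000 ≤ M := by
  rcases Nat.lt_or_ge j 2 with h | h
  · obtain rfl : j = 1 := by omega
    have := ineq_pow (e := 22) hf (by interval_cases n <;> norm_num) hI
    norm_num at this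
    omega
  · have h1 := ineq_pow (e := 32) hf (by
      have h2 : 2 * 2 ^ (n - j) ≤ 2 * 2 ^ (n - 2) :=
        Nat.mul_le_mul_left _ (Nat.pow_le_pow_right (by norm_num) (by omega))
      have h3 : 2 ^ n + 2 * 2 ^ (n - 2) + 3 * 32 ≤ 3 * 2 ^ n + 2 := by interval_cases n <;> norm_num
      omega) hI
    have h2 : 2 ^ (2 * j) * M ≤ 2 ^ 20 * M := Nat.mul_le_mul_right _ (Nat.pow_le_pow_right (by norm_num) (by omega))
    have h3 := h1.trans h2
    norm_num at h3
    omega

theorem low_seven {n f j M : ℕ} (hf : 1 ≤ f) (hj : 1 ≤ j) (hjn : j ≤ n) (hn : 7 ≤ n) (hn' : n ≤ 10)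
    (hI : Ineq 3 2 n j (3 ^ f) M) : 10000000000000000000 ≤ M := by
  rcases Nat.lt_or_ge j 2 with h | h
  · obtain rfl : j = 1 := by omega
    have := ineq_pow (e := 43) hf (by interval_cases n <;> norm_num) hI
    norm_num at this
    omega
  · have h1 := ineq_pow (e := 64) hf (by
      have h2 : 2 * 2 ^ (n - j) ≤ 2 * 2 ^ (n - 2) :=
        Nat.mul_le_mul_left _ (Nat.pow_le_pow_right (by norm_num) (by omega))
      have h3 : 2 ^ n + 2 * 2 ^ (n - 2) + 3 * 64 ≤ 3 * 2 ^ n + 2 := by interval_cases n <;> norm_num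
      omega) hI
    have h2 : 2 ^ (2 * j) * M ≤ 2 ^ 20 * M := Nat.mul_le_mul_right _ (Nat.pow_le_pow_right (by norm_num) (by omega))
    have h3 := h1.trans h2
    norm_num at h3
    omega

/-- the prime-to-three part -/
theorem le_of_dvd_pow {M k m N : ℕ} (h3 : ¬ 3 ∣ M) (hd : M ∣ N) (hN : N = 3 ^ k * m) (hm : 0 < m) : M ≤ m := by
  rw [hN] at hd
  have h1 : M.Coprime (3 ^ k) := (Nat.Coprime.symm ((Nat.Prime.coprime_iff_not_dvd Nat.prime_three).2 h3)).pow_right _
  exact Nat.le_of_dvd hm (h1.dvd_of_dvd_mul_left hd)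

theorem num_two {n n1 n2 f j M : ℕ} (hf : 1 ≤ f) (hj : 1 ≤ j) (hjn : j ≤ n) (hI : Ineq 3 2 n j (3 ^ f) M)
    (hn : n = n1 + n2) (h1 : 2 ≤ n1) (h12 : n1 ≤ n2) (h2 : n2 ≤ 5) (h3 : ¬ 3 ∣ M) (hd : M ∣ P 2 n1) : False := by
  have hc : n1 = 2 ∨ n1 = 3 ∨ n1 = 4 ∨ n1 = 5 := by omega
  rcases hc with rfl | rfl | rfl | rfl
  · have hM := le_of_dvd_pow (k := 2) (m := 80) h3 hd (by rw [P2]; norm_num) (by norm_num)
    have hc : n = 4 ∨ n = 5 ∨ 6 ≤ n := by omega
    rcases hc with rfl | rfl | hn6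
    · have := num_four hf hj hjn hI
      omega
    · have := num_five_one hf hj hjn hI
      omega
    · have := low_six hf hj hjn hn6 (by omega) hI
      omega
  · have hM := le_of_dvd_pow (k := 4) (m := 17920) h3 hd (by rw [P3]; norm_num) (by norm_num)
    have := low_six hf hj hjn (by omega) (by omega) hI
    omega
  · have hM := le_of_dvd_pow (k := 5) (m := 194969600) h3 hd (by rw [P4]; norm_num) (by norm_num)
    have := low_six hf hj hjn (by omega) (by omega) hI
    omega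
  · have hM := le_of_dvd_pow (k := 6) (m := 34040132403200) h3 hd (by rw [P5]; norm_num) (by norm_num)
    have := low_seven hf hj hjn (by omega) (by omega) hI
    omega

section

variable {n f : ℕ} {Y U : Type*} [Group Y] [Finite Y] [AddCommGroup U] [Finite U] [DistribMulAction Y U]
    {X : Subgroup Y}

/-- **two layers: the count** -/
theorem false_two {B : U → U → ZMod 2} (h : SP0 3 2 n f X B) (hXc : X ≤ Subgroup.center Y) [X.Normal]
    (hab : Cfsg.Agent.H665.RIM.AbSyl 3 (Y ⧸ X)) {n1 n2 : ℕ} (hn : n = n1 + n2) (h1 : 2 ≤ n1) (h12 : n1 ≤ n2)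
    (h2 : n2 ≤ 5) (hd : Nat.card (Y ⧸ X) ∣ P 2 n1) : False := by
  have := Fact.mk Nat.prime_three
  obtain ⟨x, hx⟩ := exists_prime_orderOf_dvd_card' 3 (h.pY.trans (Subgroup.card_quotient_dvd_card X))
  obtain ⟨j, j1, j2, j3⟩ := exists_fix0 h hx
  refine num_two h.hf j1 j2 (h.ineq x hx j j2 j3) hn h1 h12 h2 ?_ ?_
  · -- the index is prime to `3`
    have hz : IsPGroup 3 (Subgroup.zpowers x) := IsPGroup.of_card (n := 1) (by rw [Nat.card_zpowers, hx, pow_one])
    obtain ⟨S, hS⟩ := hz.exists_le_sylow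
    have hle : (S : Subgroup Y) ≤ Subgroup.centralizer ({x} : Set Y) := by
      intro y hy
      rw [Subgroup.mem_centralizer_singleton_iff]
      have hxS : x ∈ (S : Subgroup Y) := hS (Subgroup.mem_zpowers x)
      have h3 : ⁅x, y⁆ ∈ X := by
        have h4 := hab ((S : Subgroup Y).map (QuotientGroup.mk' X)) (S.isPGroup'.map _) _
          (Subgroup.mem_map_of_mem _ hxS) _ (Subgroup.mem_map_of_mem _ hy)
        have h5 : QuotientGroup.mk' X ⁅x, y⁆ = 1 := by
          rw [map_commutatorElement, commutatorElement_eq_one_iff_mul_comm]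
          exact h4
        exact (QuotientGroup.eq_one_iff _).1 h5
      have h4 : ⁅x, y⁆ ∈ (S : Subgroup Y) :=
        mul_mem (mul_mem (mul_mem hxS hy) (inv_mem hxS)) (inv_mem hy)
      have h5 : ⁅x, y⁆ = 1 := by
        obtain ⟨k, hk⟩ := S.isPGroup'.exists_card_eq
        have h6 : Nat.Coprime (Nat.card (S : Subgroup Y)) (Nat.card X) := by
          rw [hk]
          exact ((Nat.Prime.coprime_iff_not_dvd Nat.prime_three).2 h.cop).pow_left _
        have h7 := Subgroup.inf_eq_bot_of_coprime h6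
        have h8 : ⁅x, y⁆ ∈ (S : Subgroup Y) ⊓ X := ⟨h4, h3⟩
        rw [h7] at h8
        exact h8
      exact (commutatorElement_eq_one_iff_mul_comm.1 h5).symm
    intro h3
    exact S.not_dvd_index (h3.trans (Subgroup.index_dvd_of_le hle))
  · refine dvd_trans ?_ hd
    have hXx : X ≤ Subgroup.centralizer ({x} : Set Y) := hXc.trans (Subgroup.center_le_centralizer _)
    exact Subgroup.index_dvd_of_le hXx

end

end Cfsg.Agent.H302.RIM
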