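import Cfsg.Agent.H229.RIM.Defs
import Cfsg.Agent.H20.NX.BDef
import Cfsg.Agent.H586.NX.Defs

/-!
# S4816, layer (B) (extraspecial layer, `q = p`): interface between the structural and the numerical half (helper302)

`NP p s n f X B` : `H20.NX.SB` with `q = p` (without `p ≠ q` and `q ∤ |Y|`): the perfect group `Y` acts faithfully and
irreducibly on the symplectic space `(U, B)` over `ZMod s`, `|U| = s ^ (2 n)`; `X` is the largest proper normal subgroup of `Y`,
of order prime to `p`; `Y / X` is simple nonabelian of order divisible by `p`; the `p`-subgroups of `Y` are abelian; the counting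
inequality holds for the elements of order `p`, with the field of order `p ^ f`.

The module data are `H586.NX.LB (W := W) p p s n L Z π a B` (with `q = p`), `|W| = (p ^ f) ^ (s ^ n)`.
-/

set_option autoImplicit false

namespace Cfsg.Agent.H302.RIM

open scoped commutatorElement
open Cfsg.Agent.H662.GW Cfsg.Agent.H229.RIM

universe u

/-- The numerical situation of layer (B), `q = p`. -/
structure NP (p s n f : ℕ) {Y U : Type*} [Group Y] [Finite Y] [AddCommGroup U] [Finite U]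
    [DistribMulAction Y U] (X : Subgroup Y) (B : U → U → ZMod s) : Prop where
  hp : p.Prime
  hs : s.Prime
  odd : p ≠ 2
  hps : p ≠ s
  hn : 1 ≤ n
  perf : commutator Y = ⊤
  nX : X.Normal
  Xt : X ≠ ⊤
  maxX : ∀ M : Subgroup Y, M.Normal → M ≠ ⊤ → M ≤ X
  simp : IsSimpleGroup (Y ⧸ X)
  na : ¬ IsMulCommutative (Y ⧸ X)
  cop : ¬ p ∣ Nat.card X
  pY : p ∣ Nat.card (Y ⧸ X)
  ab : ∀ P : Sylow p Y, ∀ a ∈ P, ∀ b ∈ P, a * b = b * a
  faith : ∀ y : Y, (∀ u : U, y • u = u) → y = 1
  exp : ∀ u : U, s • u = 0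
  card : Nat.card U = s ^ (2 * n)
  addl : ∀ u v w : U, B (u + v) w = B u w + B v w
  addr : ∀ u v w : U, B u (v + w) = B u v + B u w
  alt : ∀ u : U, B u u = 0
  nd : ∀ u : U, (∀ v : U, B u v = 0) → u = 0
  inv : ∀ (y : Y) (u v : U), B (y • u) (y • v) = B u v
  irr : ∀ W : AddSubgroup U, (∀ y : Y, ∀ w ∈ W, y • w ∈ W) → W = ⊥ ∨ W = ⊤
  hf : 1 ≤ f
  hsf : s ∣ p ^ f - 1
  ineq : ∀ y : Y, orderOf y = p → ∀ j ≤ n, Nat.card {u : U // y • u = u} = s ^ (2 * (n - j)) →
    Ineq p s n j (p ^ f) (Subgroup.centralizer ({y} : Set Y)).index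

/-- TARGET of the structural half (`struct_B'` of H20/NX/BData with `q = p`). -/
def StructP (p : ℕ) : Prop :=
  ∀ {H V : Type u} [Group H] [Finite H] [AddCommGroup V] [Finite V] [DistribMulAction H V] {K N : Subgroup H}
    {φ : N →* ℂˣ}, CoreP (V := V) p K N φ → ∀ E : Subgroup H, Cfsg.Agent.H20.NX.ExtraSp K E →
    Cfsg.Agent.H20.NX.QPE V N E →
    ∃ (s n f : ℕ) (U Y : Type u) (_ : AddCommGroup U) (_ : Finite U) (_ : Group Y) (_ : Finite Y)
      (_ : DistribMulAction Y U) (B : U → U → ZMod s) (π : H →* Y), Function.Surjective π ∧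
      NP p s n f (K.map π) B ∧ (∀ k : H, π k = 1 ↔ ∀ e ∈ E, ⁅k, e⁆ ∈ Subgroup.center H) ∧
      (∃ (_ : (K.map π).Normal) (_ : K.Normal), Nonempty (Y ⧸ K.map π ≃* H ⧸ K)) ∧
      ∃ (G W : Type u) (_ : Group G) (_ : Finite G) (_ : AddCommGroup W) (_ : Finite W) (_ : DistribMulAction G W)
        (L Z : Subgroup G) (π₀ : G →* Y) (a : L →* Multiplicative U),
        Cfsg.Agent.H586.NX.LB (W := W) p p s n L Z π₀ a B ∧ Nat.card W = (p ^ f) ^ (s ^ n)

end Cfsg.Agent.H302.RIM
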