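import Cfsg.Agent.H302.RIM.Kill
import Cfsg.Agent.H263.RIM.BDef
import Cfsg.Agent.H437.RIM.NumP

/-!
# S4816, layer (B), `q = p`: the numerical reduction; no layer (B) for `p ≥ 5` (helper302)

* `exists_SX'` : `SP` gives `SX` with a dummy prime;
* `dvd_of_fix` : `p ∣ s ^ (2 j) - 1`;
* `num_SP` : the result of `num_p` (helper437) for `SP`;
* `false_five` : `SP`, `LP`, `p ≠ 3` are contradictory.
-/

set_option autoImplicit false
set_option linter.unusedSectionVars false

namespace Cfsg.Agent.H302.RIM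

open Cfsg.Agent.H586.NX Cfsg.Agent.H473.NX Cfsg.Agent.H263.RIM

variable {p q₀ s n f : ℕ} {G W Y U : Type*} [Group G] [Finite G] [AddCommGroup W] [Finite W]
    [DistribMulAction G W] [Group Y] [Finite Y] [AddCommGroup U] [Finite U] [DistribMulAction Y U]
    {L Z : Subgroup G} {π : G →* Y} {a : L →* Multiplicative U} {X : Subgroup Y}

theorem exists_SX' {B : U → U → ZMod s} (h : SP p s n f X B) : ∃ q₀, SX p q₀ s n X B := by
  obtain ⟨q₀, h1, h2⟩ := Nat.exists_infinite_primes (p + Nat.card Y + 1)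
  refine ⟨q₀, { hp := h.hp, hq := h2, hs := h.hs, hps := h.hps, odd := h.odd, ne := by omega, hn := h.hn, perf := h.perf
                nX := h.nX, Xt := h.Xt, maxX := h.maxX, pX := h.cop
                pY := h.pY.trans (Subgroup.card_quotient_dvd_card X)
                qY := fun h3 => ?_
                faith := h.faith, exp := h.exp, card := h.card, addl := h.addl, addr := h.addr, alt := h.alt
                nd := h.nd, inv := h.inv, irr := h.irr }⟩
  have := Nat.le_of_dvd Nat.card_pos h3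
  omega

/-- `p ∣ s ^ (2 j) - 1` -/
theorem dvd_of_fix {B : U → U → ZMod s} (S : SX (U := U) p q₀ s n X B) {x : Y} (hx : orderOf x = p) {j : ℕ} (hj : j ≤ n)
    (hfix : Nat.card {u : U // x • u = u} = s ^ (2 * (n - j))) : p ∣ s ^ (2 * j) - 1 := by
  have := Fact.mk S.hp
  let z : Subgroup Y := Subgroup.zpowers x
  have hz : IsPGroup p z := IsPGroup.of_card (n := 1) (by rw [Nat.card_zpowers, hx, pow_one])
  have hmod := card_fix_mod hz (T := (⊤ : AddSubgroup U)) (fun m hm t ht => AddSubgroup.mem_top _)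
  have h1 : Nat.card (fixT z (⊤ : AddSubgroup U)) = Nat.card {u : U // x • u = u} := by
    refine Nat.card_congr (Equiv.subtypeEquivRight fun u => ?_)
    constructor
    · intro hu
      exact hu.2 x (Subgroup.mem_zpowers x)
    · intro hu
      refine ⟨AddSubgroup.mem_top _, fun m hm => ?_⟩
      obtain ⟨k, rfl⟩ := Subgroup.mem_zpowers_iff.1 hm
      have h8 : x ∈ MulAction.stabilizer Y u := hu
      exact (MulAction.stabilizer Y u).zpow_mem h8 k
  have h2 : Nat.card (⊤ : AddSubgroup U) = s ^ (2 * n) := by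
    rw [← S.card]
    exact Nat.card_congr (Equiv.subtypeUnivEquiv fun u => AddSubgroup.mem_top u)
  rw [h1, hfix, h2] at hmod
  have h4 : p ∣ s ^ (2 * n) - s ^ (2 * (n - j)) :=
    (Nat.modEq_iff_dvd' (Nat.pow_le_pow_right S.hs.pos (by omega))).1 hmod.symm
  have h5 : s ^ (2 * n) - s ^ (2 * (n - j)) = s ^ (2 * (n - j)) * (s ^ (2 * j) - 1) := by
    obtain ⟨m, rfl⟩ : ∃ m, n = m + j := ⟨n - j, by omega⟩
    rw [Nat.add_sub_cancel, Nat.mul_sub_one, ← pow_add, mul_add]
  rw [h5] at h4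
  have h6 : p.Coprime (s ^ (2 * (n - j))) := ((Nat.coprime_primes S.hp S.hs).2 S.hps).pow_right _
  exact h6.dvd_of_dvd_mul_left h4

/-- the numerical reduction -/
theorem num_SP {B : U → U → ZMod s} (h : SP p s n f X B) {x : Y} (hx : orderOf x = p) {j : ℕ} (hj : j ≤ n)
    (hfix : Nat.card {u : U // x • u = u} = s ^ (2 * (n - j))) :
    s = 2 ∧ ((p = 3 ∧ n ≤ 6) ∨
      (p = 5 ∧ f = 1 ∧ ((n ≤ 4 ∧ j = 2) ∨ (n = 4 ∧ j = 4) ∨ (n = 5 ∧ j = 4))) ∨
      (p = 7 ∧ f = 1 ∧ n ≤ 4 ∧ j = 3)) := by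
  obtain ⟨q₀, S⟩ := exists_SX' h
  obtain ⟨j', j1, j2, j3, -, hM⟩ := exists_fix S hx
  have hjj : j' = j := by
    rw [hfix] at j3
    have := Nat.pow_right_injective S.hs.two_le j3
    omega
  subst hjj
  exact Cfsg.Agent.H437.RIM.num_p h.hp h.hs h.hps h.odd j1 hj (dvd_of_fix S hx hj hfix) h.hf h.hsf hM (h.ineq x hx _ hj hfix)

/-- **no layer (B) for `p ≥ 5`** -/
theorem false_five {B : U → U → ZMod s} (h : SP p s n f X B) (hL : LP (W := W) p s n f L Z π a B) (hp3 : p ≠ 3) :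
    False := by
  obtain ⟨q₀, S⟩ := exists_SX' h
  have := Fact.mk S.hp
  obtain ⟨x, hx⟩ := exists_prime_orderOf_dvd_card' p S.pY
  obtain ⟨j, j1, j2, j3, -⟩ := exists_fix S hx
  obtain ⟨rfl, hc⟩ := num_SP h hx j2 j3
  rcases hc with ⟨rfl, -⟩ | ⟨rfl, rfl, hc⟩ | ⟨rfl, rfl, hn, -⟩
  · exact hp3 rfl
  · refine kill_five S hL.lb (by rw [hL.card, pow_one]) ?_ (by omega)
    rcases Nat.lt_or_ge 4 n with hn | hn
    · right
      intro y hy
      obtain ⟨i, i1, i2, i3, -⟩ := exists_fix S hy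
      obtain ⟨-, hc'⟩ := num_SP h hy i2 i3
      have : i = 4 := by omega
      rw [i3, this]
    · exact Or.inl hn
  · exact kill_seven S hL.lb (Q := 7) (by rw [hL.card, pow_one]) le_rfl (Or.inl ⟨rfl, hn⟩)

end Cfsg.Agent.H302.RIM
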