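import Cfsg.Agent.H302.RIM.Defs
import Cfsg.Agent.H302.RIM.Tw
import Cfsg.Agent.H302.RIM.GenFive
import Cfsg.Agent.H473.NX.Kill
import Cfsg.Agent.H586.NX.Fix

/-!
# S4816, layer (B), `q = p`: elimination by the vectors with prescribed `T_w` (helper302, after helper473)

* `exists_SX` : `NP` gives `SX` with a dummy prime `q₀`;
* `stepX` : a vector with `|T_w| = s ^ i`, `i` smaller than the order of `s` modulo `p`, gives an element `x` of order `p`
  with `i + j ≤ n`, `|C_U(x)| = s ^ (2 (n - j))`;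
* `kill_seven` : `p ≥ 5`, `Q ≥ 7`; `kill_five` : `p = 5`, `Q = 5`.
-/

set_option autoImplicit false
set_option linter.unusedSectionVars false

namespace Cfsg.Agent.H302.RIM

open Cfsg.Agent.H586.NX Cfsg.Agent.H473.NX

section

variable {p q q₀ s n f : ℕ} {G W Y U : Type*} [Group G] [Finite G] [AddCommGroup W] [Finite W]
    [DistribMulAction G W] [Group Y] [Finite Y] [AddCommGroup U] [Finite U] [DistribMulAction Y U]
    {L Z : Subgroup G} {π : G →* Y} {a : L →* Multiplicative U} {X : Subgroup Y}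

theorem exists_SX {B : U → U → ZMod s} (h : NP p s n f X B) : ∃ q₀, SX p q₀ s n X B := by
  obtain ⟨q₀, h1, h2⟩ := Nat.exists_infinite_primes (p + Nat.card Y + 1)
  refine ⟨q₀, { hp := h.hp, hq := h2, hs := h.hs, hps := h.hps, odd := h.odd, ne := by omega, hn := h.hn, perf := h.perf
                nX := h.nX, Xt := h.Xt, maxX := h.maxX, pX := h.cop
                pY := h.pY.trans (Subgroup.card_quotient_dvd_card X)
                qY := fun h3 => ?_
                faith := h.faith, exp := h.exp, card := h.card, addl := h.addl, addr := h.addr, alt := h.alt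
                nd := h.nd, inv := h.inv, irr := h.irr }⟩
  have := Nat.le_of_dvd Nat.card_pos h3
  omega

theorem fx {B : U → U → ZMod s} (S : SX (U := U) p q₀ s n X B) : Fx p s n Y U := by
  intro x hx
  obtain ⟨j, h1, h2, h3, h4, -⟩ := exists_fix S hx
  exact ⟨j, h1, h2, h3, h4⟩

theorem sq {B : U → U → ZMod s} (S : SX (U := U) p q₀ s n X B) : Sq (Y := Y) p s B :=
  fun x hx T hiso hT => card_sq_le S hx T hiso hT

theorem card_fix_conj (y g : Y) : Nat.card {u : U // (g * y * g⁻¹) • u = u} = Nat.card {u : U // y • u = u} := by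
  refine Nat.card_congr ⟨fun u => ⟨g⁻¹ • u.1, ?_⟩, fun u => ⟨g • u.1, ?_⟩, fun u => ?_, fun u => ?_⟩
  · have h := u.2
    rw [mul_smul, mul_smul] at h
    rw [eq_inv_smul_iff, h]
  · rw [mul_smul, mul_smul, inv_smul_smul, u.2]
  · exact Subtype.ext (smul_inv_smul g u.1)
  · exact Subtype.ext (inv_smul_smul g u.1)

/-- a vector `w` and an element `x` of order `p` of a conjugate of the given `y`, which normalizes `T_w` -/
theorem exists_conj_T {B : U → U → ZMod s} (S : SX (U := U) p q₀ s n X B) (h : LB (W := W) p q s n L Z π a B)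
    {w : W} (hw : w ≠ 0) {y : Y} (hy : orderOf y = p) :
    ∃ (x : Y) (T : AddSubgroup U) (P : Sylow p Y), orderOf x = p ∧ x ∈ P ∧
      Nat.card {u : U // x • u = u} = Nat.card {u : U // y • u = u} ∧
      (T : Set U) = Tw L a w ∧ (∀ u ∈ T, ∀ v ∈ T, B u v = 0) ∧ (∀ m ∈ (P : Subgroup Y), ∀ t ∈ T, m • t ∈ T) := by
  have hp := S.hp
  have := Fact.mk hp
  obtain ⟨T, hT, hiso, hinv⟩ := Cfsg.Agent.H921.NX.exists_T h hw
  obtain ⟨P, hP⟩ := exists_sylow hp h w
  have hz : IsPGroup p (Subgroup.zpowers y) := IsPGroup.of_card (n := 1) (by rw [Nat.card_zpowers, hy, pow_one])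
  obtain ⟨P₁, hP₁⟩ := hz.exists_le_sylow
  obtain ⟨g, hg⟩ := MulAction.exists_smul_eq Y P₁ P
  refine ⟨g * y * g⁻¹, T, P, ?_, ?_, card_fix_conj y g, hT, hiso, ?_⟩
  · rw [← hy]
    exact orderOf_injective (MulAut.conj g).toMonoidHom (MulAut.conj g).injective y
  · rw [← hg]
    exact ⟨y, hP₁ (Subgroup.mem_zpowers y), rfl⟩
  · intro m hm t ht
    obtain ⟨g, hg, rfl⟩ := hP m hm
    exact hinv g hg t ht

/-- the main step: a vector `w` with `|T_w| = s ^ i`, `i` smaller than the order of `s` modulo `p` -/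
theorem stepX {B : U → U → ZMod s} (S : SX (U := U) p q₀ s n X B) (h : LB (W := W) p q s n L Z π a B)
    {w : W} (hw : w ≠ 0) {i : ℕ} (hi : Nat.card (Tw L a w) = s ^ i) (hord : ∀ k, 1 ≤ k → k ≤ i → ¬ p ∣ s ^ k - 1)
    {y : Y} (hy : orderOf y = p) {j : ℕ} (hj : j ≤ n) (hfix : Nat.card {u : U // y • u = u} = s ^ (2 * (n - j))) :
    i + j ≤ n := by
  have hp := S.hp
  have := Fact.mk hp
  obtain ⟨x, T, P, hx, hxP, hxy, hT, hiso, h1⟩ := exists_conj_T S h hw hy
  have hcard : Nat.card T = s ^ i := by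
    rw [← hi, ← hT]
    rfl
  have h2 := triv_of_small hp S.hs S.hps P.isPGroup' h1 hcard hord
  have h3 := sq S x hx T hiso fun u hu => h2 u hu x hxP
  rw [hcard, hxy, hfix, ← pow_mul] at h3
  have h4 := (Nat.pow_le_pow_iff_right S.hs.one_lt).1 h3
  omega

/-- `s = 2`: an isotropic invariant `T` without fixed vectors: `|T| ^ 2 * |C_U(x)| ≤ |U|` -/
theorem free_le {B : U → U → ZMod 2} (S : SX (U := U) p q₀ 2 n X B) {x : Y} (hx : x ^ p = 1) {T : AddSubgroup U}
    (hiso : ∀ u ∈ T, ∀ v ∈ T, B u v = 0) (hxT : ∀ t ∈ T, x • t ∈ T) (hfree : ∀ t ∈ T, x • t = t → t = 0) :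
    Nat.card T ^ 2 * Nat.card {u : U // x • u = u} ≤ Nat.card U := by
  classical
  -- `T` is orthogonal to the fixed points
  have hort : ∀ t ∈ T, ∀ c : U, x • c = c → B t c = 0 := by
    intro t ht c hc
    have hpow : ∀ k : ℕ, x ^ k • c = c := by
      intro k
      induction k with
      | zero => rw [pow_zero, one_smul]
      | succ k ih => rw [pow_succ, mul_smul, hc, ih]
    have hmem : ∀ k : ℕ, x ^ k • t ∈ T := by
      intro k
      induction k with
      | zero => rw [pow_zero, one_smul]; exact ht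
      | succ k ih => rw [pow_succ', mul_smul]; exact hxT _ ih
    have hsum : ∑ k ∈ Finset.range p, x ^ k • t = 0 := by
      refine hfree _ (T.sum_mem fun k _ => hmem k) ?_
      rw [Finset.smul_sum]
      have h1 : ∑ k ∈ Finset.range p, x • x ^ k • t = ∑ k ∈ Finset.range p, x ^ (k + 1) • t :=
        Finset.sum_congr rfl fun k _ => by rw [← mul_smul, ← pow_succ']
      rw [h1]
      have h2 := Finset.sum_range_succ (fun k => x ^ k • t) p
      have h3 := Finset.sum_range_succ' (fun k => x ^ k • t) p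
      rw [h2, hx, pow_zero] at h3
      exact (add_right_cancel h3).symm
    have hB : ∑ k ∈ Finset.range p, B (x ^ k • t) c = 0 := by
      have h1 : ∀ s : Finset ℕ, B (∑ k ∈ s, x ^ k • t) c = ∑ k ∈ s, B (x ^ k • t) c := by
        intro s
        induction s using Finset.induction_on with
        | empty => rw [Finset.sum_empty, Finset.sum_empty, Cfsg.Agent.H921.NX.B_zero_left S]
        | insert k s hk ih => rw [Finset.sum_insert hk, Finset.sum_insert hk, S.addl, ih]
      rw [← h1, hsum, Cfsg.Agent.H921.NX.B_zero_left S]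
    have hB2 : ∀ k : ℕ, B (x ^ k • t) c = B t c := by
      intro k
      conv_lhs => rw [← hpow k]
      exact S.inv _ _ _
    rw [Finset.sum_congr rfl fun k _ => hB2 k, Finset.sum_const, Finset.card_range] at hB
    have hodd : Odd p := S.hp.odd_of_ne_two S.odd
    obtain ⟨m, rfl⟩ := hodd
    rw [add_smul, mul_smul, one_smul] at hB
    have h2 : (2 : ℕ) • (m • B t c) = 0 := by
      rw [nsmul_eq_mul]
      have : ((2 : ℕ) : ZMod 2) = 0 := by decide
      rw [this, zero_mul]
    have h3 : (2 * m) • B t c = 0 := by rw [mul_smul]; exact h2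
    rw [mul_smul] at h3
    rwa [h3, zero_add] at hB
  -- the sum
  let P := Cfsg.Agent.H921.NX.perp S T
  have h1 := (Cfsg.Agent.H921.NX.perp_facts S T).1
  have h2 : Nat.card T * Nat.card {u : U // x • u = u} ≤ Nat.card P := by
    rw [← Nat.card_prod]
    refine Nat.card_le_card_of_injective (fun z : T × {u : U // x • u = u} => (⟨(z.1 : U) + z.2.1, ?_⟩ : P)) ?_
    · intro t ht
      rw [S.addl, hiso _ z.1.2 t ht, zero_add, Cfsg.Agent.H921.NX.B_swap S, hort t ht _ z.2.2, neg_zero]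
    · rintro ⟨⟨t, ht⟩, ⟨c, hc⟩⟩ ⟨⟨t', ht'⟩, ⟨c', hc'⟩⟩ hz
      have h3 : t + c = t' + c' := congrArg Subtype.val hz
      have h4 : t - t' = c' - c := by
        rw [sub_eq_sub_iff_add_eq_add, h3, add_comm]
      have h5 : t - t' = 0 := by
        refine hfree _ (T.sub_mem ht ht') ?_
        rw [h4, smul_sub, hc, hc']
      have h6 : t = t' := sub_eq_zero.1 h5
      have h7 : c = c' := by
        rw [h5] at h4
        exact (sub_eq_zero.1 h4.symm).symm
      subst h6 h7
      rfl
  calc Nat.card T ^ 2 * Nat.card {u : U // x • u = u}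
      = Nat.card T * (Nat.card T * Nat.card {u : U // x • u = u}) := by ring
    _ ≤ Nat.card T * Nat.card P := Nat.mul_le_mul_left _ h2
    _ = Nat.card U := h1

theorem key {B : U → U → ZMod 2} (S : SX (U := U) p q₀ 2 n X B) (h : LB (W := W) p q 2 n L Z π a B) (i : ℕ)
    (hw : ∃ w : W, w ≠ 0 ∧ Nat.card (Tw L a w) = 2 ^ i) (hord : ∀ k, 1 ≤ k → k ≤ i → ¬ p ∣ 2 ^ k - 1) :
    ∃ j, 1 ≤ j ∧ i + j ≤ n ∧ ∃ i', 1 ≤ i' ∧ i' ≤ j ∧ p ∣ 2 ^ (2 * i') - 1 := by
  obtain ⟨w, hw, hwi⟩ := hw
  have := Fact.mk S.hp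
  obtain ⟨x, hx⟩ := exists_prime_orderOf_dvd_card' p S.pY
  obtain ⟨j, j1, j2, j3, i', i1, i2, i3⟩ := fx S x hx
  exact ⟨j, j1, stepX S h hw hwi hord hx j2 j3, i', i1, i2, i3⟩

theorem gen2 {B : U → U → ZMod 2} (S : SX (U := U) p q₀ 2 n X B) (h : LB (W := W) p q 2 n L Z π a B) {Q : ℕ}
    (hQ : Nat.card W = Q ^ (2 ^ n)) (hQ7 : 7 ≤ Q ∨ Q = 5) (hn2 : 2 ≤ n) :
    ∃ w : W, w ≠ 0 ∧ Nat.card (Tw L a w) = 2 ^ (n - 2) := by
  rcases hQ7 with hQ7 | rfl
  · refine exists_gen S h hQ (i := n - 2) (by omega) ?_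
    have e1 : n - (n - 2) = 2 := by omega
    rw [e1]
    have h8 : 49 ≤ Q ^ 2 := by nlinarith
    norm_num
    omega
  · exact exists_gen_five S h hQ (by omega)

/-- `p = 7, 17` -/
theorem kill_seven {B : U → U → ZMod 2} (S : SX (U := U) p q₀ 2 n X B) (h : LB (W := W) p q 2 n L Z π a B) {Q : ℕ}
    (hQ : Nat.card W = Q ^ (2 ^ n)) (hQ7 : 7 ≤ Q) (hcase : (p = 7 ∧ n ≤ 4) ∨ (p = 17 ∧ n = 4)) : False := by
  have hn := S.hn
  rcases hcase with ⟨rfl, hn4⟩ | ⟨rfl, rfl⟩
  · obtain ⟨x, hx⟩ : ∃ x : Y, orderOf x = 7 := by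
      have : Fact (Nat.Prime 7) := ⟨by norm_num⟩
      exact exists_prime_orderOf_dvd_card' 7 S.pY
    obtain ⟨j0, j1, j2, -, i', i1, i2, i3⟩ := fx S x hx
    have h3 := mod7 i1 i3
    have hg := gen2 S h hQ (Or.inl hQ7) (by omega)
    obtain ⟨j, j1, j2, i', i1, i2, i3⟩ := key S h (n - 2) hg (by
      intro k k1 k2
      have h3 : k = 1 ∨ k = 2 := by omega
      rcases h3 with rfl | rfl <;> norm_num)
    have := mod7 i1 i3
    omega
  · have hg := gen2 S h hQ (Or.inl hQ7) (by omega)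
    obtain ⟨j, j1, j2, i', i1, i2, i3⟩ := key S h (4 - 2) hg (by
      intro k k1 k2
      have h3 : k = 1 ∨ k = 2 := by omega
      rcases h3 with rfl | rfl <;> norm_num)
    have := mod17 i1 i3
    omega

/-- `p = 5` -/
theorem kill_five {B : U → U → ZMod 2} (S : SX (U := U) 5 q₀ 2 n X B) (h : LB (W := W) 5 q 2 n L Z π a B)
    (hQ : Nat.card W = 5 ^ (2 ^ n)) (hn4 : n ≤ 4 ∨ ∀ x : Y, orderOf x = 5 → Nat.card {u : U // x • u = u} = 2 ^ (2 * (n - 4)))
    (hn5 : n ≤ 5) : False := by
  have hn := S.hn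
  have := Fact.mk S.hp
  obtain ⟨y, hy⟩ := exists_prime_orderOf_dvd_card' 5 S.pY
  obtain ⟨j, j1, j2, j3, -⟩ := fx S y hy
  rcases Nat.lt_or_ge 4 n with hlt | hge
  · -- `n = 5`
    obtain rfl : n = 5 := by omega
    have hfix := (hn4.resolve_left (by omega)) y hy
    obtain ⟨w, hw, hwi⟩ := gen2 S h hQ (Or.inr rfl) (by norm_num)
    have := stepX S h hw hwi (by
      intro k k1 k2
      have h3 : k = 1 ∨ k = 2 ∨ k = 3 := by omega
      rcases h3 with rfl | rfl | rfl <;> norm_num) hy (j := 4) (by norm_num) hfix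
    omega
  · obtain ⟨w, hw, hc⟩ := exists_max S h hQ
    obtain ⟨x, T, P, hx, hxP, hxy, hT, hiso, hTP⟩ := exists_conj_T S h hw hy
    have hTc : 2 ^ n ≤ Nat.card T := by
      refine hc.trans (le_of_eq ?_)
      rw [← hT]
      rfl
    -- `|T| ^ 2 ≤ |U|`
    have h1 : Nat.card T ≤ Nat.card (Cfsg.Agent.H921.NX.perp S T) :=
      Nat.card_mono (Set.toFinite _) (fun u hu t ht => hiso u hu t ht)
    have h2 := (Cfsg.Agent.H921.NX.perp_facts S T).1
    have h3 : Nat.card T * Nat.card T ≤ 2 ^ (2 * n) := by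
      rw [← S.card, ← h2]
      exact Nat.mul_le_mul_left _ h1
    have h4 : Nat.card T = 2 ^ n := by
      refine le_antisymm ?_ hTc
      by_contra hcon
      push Not at hcon
      have h5 : 2 ^ n * 2 ^ n < Nat.card T * Nat.card T := Nat.mul_lt_mul'' hcon hcon
      rw [← pow_add, ← two_mul] at h5
      omega
    rcases Nat.lt_or_ge n 4 with hlt | hge'
    · have h5 : Nat.card (Tw L a w) = 2 ^ n := by
        rw [← h4, ← hT]
        rfl
      have := stepX S h hw h5 (by
        intro k k1 k2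
        have h3 : k = 1 ∨ k = 2 ∨ k = 3 := by omega
        rcases h3 with rfl | rfl | rfl <;> norm_num) hy j2 j3
      omega
    · obtain rfl : n = 4 := by omega
      -- `j ≤ 2`
      obtain ⟨w', hw', hwi'⟩ := gen2 S h hQ (Or.inr rfl) (by norm_num)
      have hj2 := stepX S h hw' hwi' (by
        intro k k1 k2
        have h3 : k = 1 ∨ k = 2 := by omega
        rcases h3 with rfl | rfl <;> norm_num) hy j2 j3
      have hx5 : x ^ 5 = 1 := by rw [← hx, pow_orderOf_eq_one]
      have hxT : ∀ t ∈ T, x • t ∈ T := hTP x hxP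
      rw [j3] at hxy
      -- the fixed points of `x` in `T`
      let z : Subgroup Y := Subgroup.zpowers x
      have hz : IsPGroup 5 z := IsPGroup.of_card (n := 1) (by rw [Nat.card_zpowers, hx, pow_one])
      have hzP : z ≤ P := by
        rw [Subgroup.zpowers_le]
        exact hxP
      have hmod := card_fix_mod hz (T := T) (fun m hm t ht => hTP m (hzP hm) t ht)
      have hiso' : ∀ u ∈ fixT z T, ∀ v ∈ fixT z T, B u v = 0 := fun u hu v hv => hiso u hu.1 v hv.1
      have hsq := sq S x hx (fixT z T) hiso' fun u hu => hu.2 x (Subgroup.mem_zpowers x)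
      rw [hxy] at hsq
      have hd : Nat.card (fixT z T) ∣ 2 ^ 4 := by
        rw [← h4]
        exact AddSubgroup.card_dvd_of_le (fixT_le z T)
      obtain ⟨c, hc4, hcc⟩ := (Nat.dvd_prime_pow Nat.prime_two).1 hd
      rw [hcc, h4] at hmod
      rw [hcc, ← pow_mul] at hsq
      have hc3 := (Nat.pow_le_pow_iff_right (by norm_num)).1 hsq
      have hc0 : c = 0 ∨ c = 4 := by
        have : c = 0 ∨ c = 1 ∨ c = 2 ∨ c = 3 ∨ c = 4 := by omega
        rcases this with rfl | rfl | rfl | rfl | rfl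
        · left; rfl
        · exact absurd hmod (by decide)
        · exact absurd hmod (by decide)
        · exact absurd hmod (by decide)
        · right; rfl
      rcases hc0 with rfl | rfl
      · have hfree : ∀ t ∈ T, x • t = t → t = 0 := by
          intro t ht htx
          rw [pow_zero] at hcc
          have h6 : fixT z T = ⊥ := AddSubgroup.card_eq_one.1 hcc
          have h7 : t ∈ fixT z T := by
            refine ⟨ht, fun m hm => ?_⟩
            obtain ⟨k, rfl⟩ := Subgroup.mem_zpowers_iff.1 hm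
            have h8 : x ∈ MulAction.stabilizer Y t := htx
            exact (MulAction.stabilizer Y t).zpow_mem h8 k
          rw [h6] at h7
          exact AddSubgroup.mem_bot.1 h7
        have h6 := free_le S hx5 hiso hxT hfree
        rw [h4, hxy, S.card] at h6
        rw [← pow_mul, ← pow_add] at h6
        have h7 := (Nat.pow_le_pow_iff_right (by norm_num)).1 h6
        omega
      · omega

end

end Cfsg.Agent.H302.RIM
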