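import Cfsg.Agent.H302.RIM.Three
import Cfsg.Agent.H302.RIM.CountTwo
import Cfsg.Agent.H20.RIM.Qpe
import Cfsg.Agent.H229.RIM.TriB
import Cfsg.Agent.H229.RIM.Top
import Cfsg.Agent.H586.RIM.EndTwo
import Cfsg.Agent.H325.RIM.Base
import Cfsg.Agent.H610.NX.XCentral
import Cfsg.Agent.S0493

/-!
# S4816, layer (B): `LayerBP` (helper302)

* `two_le` : `n ≥ 2`;
* `struct_E` : the layer of `E` for `p = 3`: `s = 2`, `n ≤ 5`, `⁅K, H⁆` acts trivially;
* `layerBP_of` : `LayerBP p` from the case of one layer and `NBall` (`OneP`, helper586).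
-/

set_option autoImplicit false
set_option linter.unusedSectionVars false

open Cfsg
open scoped commutatorElement

namespace Cfsg.Agent.H302.RIM

open Cfsg.Agent.H586.NX Cfsg.Agent.H263.RIM Cfsg.Agent.H229.RIM Cfsg.Agent.H20.RIM
open Cfsg.Agent.H511.Wt Cfsg.Agent.H229.NX Cfsg.Agent.H665.RIM
open Cfsg.Agent.H20.NX (ExtraSp QPE)
open Cfsg.Agent.Schreier.Basic (Sch)
open Cfsg.Agent.H37.NW (P)

universe u

/-- one layer, `H / K` is not bad -/
def OneP (p : ℕ) : Prop :=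
  ∀ {H V : Type u} [Group H] [Finite H] [AddCommGroup V] [Finite V] [DistribMulAction H V]
    (K N : Subgroup H) (φ : N →* ℂˣ) [K.Normal], CoreP (V := V) p K N φ → ¬ ImpP H V →
    ∀ E : Subgroup H, ExtraSp K E → (∀ k ∈ K, ∀ h : H, ∀ e ∈ E, ⁅⁅k, h⁆, e⁆ ∈ Subgroup.center H) →
      (∀ h : H, (∀ e ∈ E, ⁅h, e⁆ ∈ N) → h ∈ Subgroup.center H) → NBall.{u} p (H ⧸ K) → False

section

variable {n f : ℕ} {Y U : Type*} [Group Y] [Finite Y] [AddCommGroup U] [Finite U] [DistribMulAction Y U]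
    {X : Subgroup Y}

/-- `n ≥ 2` -/
theorem two_le {B : U → U → ZMod 2} (h : SP0 3 2 n f X B) [X.Normal] : 2 ≤ n := by
  by_contra hn
  have h1 := h.hn
  obtain rfl : n = 1 := by omega
  have h2 := (Subgroup.card_quotient_dvd_card X).trans (card_dvd0 h)
  rw [Cfsg.Agent.H994.NX.P1] at h2
  have h3 := Nat.le_of_dvd (by norm_num) h2
  have := h.simp
  have h4 : ¬ IsCyclic (Y ⧸ X) := fun hc => h.na ⟨⟨fun a b => by
    obtain ⟨g, hg⟩ := hc.exists_generator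
    obtain ⟨i, rfl⟩ := Subgroup.mem_zpowers_iff.1 (hg a)
    obtain ⟨j, rfl⟩ := Subgroup.mem_zpowers_iff.1 (hg b)
    rw [← zpow_add, ← zpow_add, add_comm]⟩⟩
  have h5 := Cfsg.Agent.S0493.result h4 (by omega)
  omega

end

section

variable {H V : Type u} [Group H] [Finite H] [AddCommGroup V] [Finite V] [DistribMulAction H V]
  {K N E M : Subgroup H} {φ : N →* ℂˣ}

/-- the layer of `E` for `p = 3` -/
theorem struct_E (C : CoreP (V := V) 3 K N φ) [K.Normal] (hni : ¬ ImpP H V) (hE : ExtraSp K E) :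
    (∀ l ∈ E, l ^ 2 ∈ Subgroup.center H) ∧
      (∀ k ∈ K, ∀ h : H, ∀ e ∈ E, ⁅⁅k, h⁆, e⁆ ∈ Subgroup.center H) ∧
      (¬ Cfsg.Agent.H325.RIM.Surv 3 (H ⧸ K)) ∧
      ∃ n : ℕ, 2 ≤ n ∧ n ≤ 5 ∧ Nat.card (H ⧸ K) ∣ P 2 n ∧ ((Subgroup.center H).subgroupOf E).index = 2 ^ (2 * n) := by
  have := Fact.mk Nat.prime_three
  have hQ := qpe_of_not_impP C hni E
  obtain ⟨s, hs, hsc⟩ := exists_s hE
  obtain ⟨n, f, U, Y, i1, i2, i3, i4, i5, B, π, hπ, h2, h3, h4, h5, h6, G, W, j1, j2, j3, j4, j5, L, Z, π₀, a, hL⟩ :=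
    struct_L C hE.nE hE.EK hE.nc hE.cls hs hsc hQ
  have hSP : SP 3 s n f (K.map π) B := { toSP0 := h2, irr := h4 hE.min }
  obtain ⟨rfl, hn5⟩ := le_five hSP
  obtain ⟨q₀, S⟩ := exists_SX' hSP
  have hXc := Cfsg.Agent.H610.NX.X_central S hn5
  obtain ⟨k1, k2, ⟨e⟩⟩ := h5
  refine ⟨hsc, ?_, ?_, n, two_le h2, hn5, ?_, ?_⟩
  · intro k hk h
    rw [← h3, map_commutatorElement, commutatorElement_eq_one_iff_mul_comm]
    exact (Subgroup.mem_center_iff.1 (hXc (Subgroup.mem_map_of_mem _ hk)) _).symm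
  · rintro ⟨g, hg, hs⟩
    exact false_three hSP hL hn5 hXc k1 ⟨g, Cfsg.Agent.H325.RIM.named_congr hg e, hs⟩
  · rw [← Nat.card_congr e.toEquiv]
    exact (Subgroup.card_quotient_dvd_card _).trans (card_dvd S)
  · rw [← h6, h2.card]

/-- **layer (B) for `p = 3`** -/
theorem false_layer_three (PP : Pow)
    (hSch : ∀ (S : Type u) [Group S] [Finite S], IsSimpleGroup S → ¬ IsMulCommutative S → Sch S)
    (h1 : OneP.{u} 3)
    (hrow : ∀ (S : Type u) [Group S] [Finite S], IsSimpleGroup S → ¬ IsMulCommutative S → 3 ∣ Nat.card S →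
      AbSyl 3 S → NBall.{u} 3 S ∨ Cfsg.Agent.H325.RIM.Surv 3 S)
    (C : CoreP (V := V) 3 K N φ) (hni : ¬ ImpP H V) (hE : ExtraSp K E) : False := by
  classical
  have := Fact.mk Nat.prime_three
  have := C.nK
  obtain ⟨hsE, hXE, hnS, n1, a1, a2, a3, a4⟩ := struct_E C hni hE
  by_cases hD : ∀ h : H, (∀ e ∈ E, ⁅h, e⁆ ∈ N) → h ∈ Subgroup.center H
  · rcases hrow (H ⧸ K) C.simp C.na C.pS C.absyl with h | h
    · exact h1 K N φ C hni E hE hXE hD h
    · exact hnS h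
  · obtain ⟨M, hM, hEM⟩ := Cfsg.Agent.H586.RIM.exists_second C hE (fun M m1 m2 m3 m4 => by
      by_contra hc
      exact false_of_noncls PP hSch C hni m1 m2 m3 m4 hc) hD
    obtain ⟨hsM, hXM, -, n2, b1, b2, b3, b4⟩ := struct_E C hni hM
    have hne : ∃ a ∈ E, ∃ b ∈ E, ⁅a, b⁆ ∉ N := by
      by_contra hc
      push Not at hc
      exact hE.nc (central_of_abelian C (qpe_of_not_impP C hni E) hE.nE le_rfl hc)
    have hMn := hM.nE
    have hEn := hE.nE
    obtain ⟨n, f, U, Y, i1, i2, i3, i4, i5, B, π, hπ, h2, h3, h4, h5, h6, -⟩ :=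
      struct_L C (E := E ⊔ M) inferInstance (sup_le hE.EK hM.EK) (fun h => hE.nc (le_sup_left.trans h))
        (fun a ha b hb => Cfsg.Agent.H586.RIM.two_cls C hE hM hEM ha hb) Nat.prime_two
        (Cfsg.Agent.H586.RIM.two_pow C hE hM hEM hsE hsM) (qpe_of_not_impP C hni _)
    have hX := Cfsg.Agent.H586.RIM.two_X hM hXE hXM
    have hXc : K.map π ≤ Subgroup.center Y := by
      rintro _ ⟨k, hk, rfl⟩
      rw [Subgroup.mem_center_iff]
      intro y
      obtain ⟨h, rfl⟩ := hπ y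
      have h7 := (h3 ⁅k, h⁆).2 (hX k hk h)
      rw [map_commutatorElement, commutatorElement_eq_one_iff_mul_comm] at h7
      exact h7.symm
    obtain ⟨k1, k2, ⟨e⟩⟩ := h5
    have hn : n = n1 + n2 := by
      have h8 := Cfsg.Agent.H586.RIM.two_index C hE hM hEM hne
      rw [Subgroup.relIndex, Subgroup.relIndex, Subgroup.relIndex, ← h6, h2.card, a4, b4, ← pow_add] at h8
      have h9 := Nat.pow_right_injective (le_refl 2) h8
      omega
    have hab : AbSyl 3 (Y ⧸ K.map π) := Cfsg.Agent.H325.RIM.AbSyl.congr e C.absyl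
    have hcard : Nat.card (Y ⧸ K.map π) = Nat.card (H ⧸ K) := Nat.card_congr e.toEquiv
    rcases Nat.le_total n1 n2 with h12 | h12
    · exact false_two h2 hXc hab hn a1 h12 b2 (hcard ▸ a3)
    · exact false_two h2 hXc hab (hn.trans (add_comm _ _)) b1 h12 a2 (hcard ▸ b3)

end

/-- **layer (B)** -/
theorem layerBP_of (PP : Pow) {p : ℕ} [hp : Fact p.Prime]
    (hSch : ∀ (S : Type u) [Group S] [Finite S], IsSimpleGroup S → ¬ IsMulCommutative S → Sch S)
    (h1 : OneP.{u} 3)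
    (hrow : ∀ (S : Type u) [Group S] [Finite S], IsSimpleGroup S → ¬ IsMulCommutative S → 3 ∣ Nat.card S →
      AbSyl 3 S → NBall.{u} 3 S ∨ Cfsg.Agent.H325.RIM.Surv 3 S) : LayerBP.{u} p := by
  intro H V _ _ _ _ _ K N φ C hni _ E hEn hEK hEc hmin hcls
  have hE : ExtraSp K E := ⟨hEn, hEK, hEc, fun M hM m1 m2 => hmin M hM (lt_of_le_of_ne m1 m2),
    fun a ha b hb => hcls (Subgroup.commutator_mem_commutator ha hb)⟩
  by_cases h3 : p = 3
  · subst h3
    exact false_layer_three PP hSch h1 hrow C hni hE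
  · obtain ⟨s, n, f, U, Y, i1, i2, i3, i4, i5, B, π, hπ, h2, h3', h5, h6, G, W, j1, j2, j3, j4, j5, L, Z, π₀, a, hL⟩ :=
      struct_BP C hE (qpe_of_not_impP C hni E)
    exact false_five h2 hL h3

end Cfsg.Agent.H302.RIM
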