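import Cfsg.Agent.H302.RIM.Kill
import Cfsg.Agent.H994.NX.Wie

/-!
# S4816, layer (B), `q = p = 3`: invariant isotropic subspaces of a noncyclic `3`-group (helper302)

`T_lemma` : `x, y` commuting elements of order `3` generating a group `P` of order `9`, `|C_U(z)| ≤ 4 |C_U(P)|` for all `z ≠ 1` in
`P`, `T` an isotropic `P`-invariant subgroup of `U`, `|C_U(P)| ≤ |T|`: then `T = 0`.
`exists_big` : there is a vector `w` with `|T_w| ≥ 2 ^ (n - 1)`.
-/

set_option autoImplicit false
set_option linter.unusedSectionVars false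

namespace Cfsg.Agent.H302.RIM

open Cfsg.Agent.H586.NX Cfsg.Agent.H994.NX

section

variable {q₀ n : ℕ} {Y U : Type*} [Group Y] [Finite Y] [AddCommGroup U] [Finite U] [DistribMulAction Y U]
  {X : Subgroup Y} {B : U → U → ZMod 2}

theorem three_B (c : ZMod 2) : c + c + c = c := by
  revert c
  decide

/-- a fixed vector pairs with `e3 z u` as with `u` -/
theorem B_e3 (S : SX (U := U) 3 q₀ 2 n X B) {z : Y} {v : U} (hv : z • v = v) (u : U) : B v (e3 z u) = B v u := by
  have h1 : B v (z • u) = B v u := by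
    conv_lhs => rw [← hv]
    exact S.inv _ _ _
  have h2 : B v (z • z • u) = B v u := by
    conv_lhs => rw [← hv]
    rw [S.inv, h1]
  unfold e3
  rw [S.addr, S.addr, h1, h2, three_B]

theorem fix_zpowers {z : Y} {v : U} (hv : z • v = v) : z⁻¹ • v = v := by
  rw [inv_smul_eq_iff, hv]

/-- the main step, for one element `z` of `P` and an element `g` of `P` outside `⟨z⟩` -/
theorem T_step (S : SX (U := U) 3 q₀ 2 n X B) {z g : Y} (hz : z ^ 3 = 1) (hg : g ^ 3 = 1) (hzg : z * g = g * z)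
    (hle : Nat.card {u : U // z • u = u} ≤ 4 * Nat.card {u : U // z • u = u ∧ g • u = u}) {T : AddSubgroup U}
    (hiso : ∀ u ∈ T, ∀ v ∈ T, B u v = 0) (hgT : ∀ t ∈ T, g • t ∈ T) {v : U} (hvT : v ∈ T) (hv : z • v = v)
    (hv0 : e3 g v = 0) : v = 0 := by
  classical
  by_contra hne
  have hexp := S.exp
  have h2 : ∀ u : U, u + u = 0 := fun u => by have := hexp u; rwa [two_smul] at this
  have hneg : ∀ u : U, -u = u := fun u => neg_eq_of_add_eq_zero_left (h2 u)
  have hc : ∀ u : U, z • g • u = g • z • u := fun u => by rw [← mul_smul, hzg, mul_smul]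
  have hg3 : ∀ u : U, g • g • g • u = u := smul_three hg
  -- the two subgroups
  let C : AddSubgroup U :=
    { carrier := {u | z • u = u}
      zero_mem' := smul_zero z
      add_mem' := fun {a b} ha hb => by
        show z • (a + b) = a + b
        rw [smul_add, show z • a = a from ha, show z • b = b from hb]
      neg_mem' := fun {a} ha => by
        show z • (-a) = -a
        rw [smul_neg, show z • a = a from ha] }
  let C0 : AddSubgroup U :=
    { carrier := {u | z • u = u ∧ g • u = u}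
      zero_mem' := ⟨smul_zero z, smul_zero g⟩
      add_mem' := fun {a b} ha hb => ⟨by rw [smul_add, ha.1, hb.1], by rw [smul_add, ha.2, hb.2]⟩
      neg_mem' := fun {a} ha => ⟨by rw [smul_neg, ha.1], by rw [smul_neg, ha.2]⟩ }
  let V : AddSubgroup U :=
    { carrier := {u | z • u = u ∧ e3 g u = 0}
      zero_mem' := ⟨smul_zero z, e3_zero g⟩
      add_mem' := fun {a b} ha hb => ⟨by rw [smul_add, ha.1, hb.1], by rw [e3_add, ha.2, hb.2, add_zero]⟩
      neg_mem' := fun {a} ha => by rw [hneg]; exact ha }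
  have hC : Nat.card {u : U // z • u = u} = Nat.card C0 * Nat.card V := by
    rw [← Nat.card_prod]
    symm
    refine Nat.card_congr ⟨fun a => ⟨(a.1 : U) + a.2, ?_⟩, fun u => ⟨⟨e3 g u.1, ?_⟩, ⟨u.1 + e3 g u.1, ?_⟩⟩, ?_, ?_⟩
    · rw [smul_add, a.1.2.1, a.2.2.1]
    · refine ⟨?_, smul_e3 hg _⟩
      unfold e3
      rw [smul_add, smul_add, hc, hc, hc, u.2]
    · constructor
      · unfold e3
        rw [smul_add, smul_add, smul_add, hc, hc, hc, u.2]
      · rw [e3_add, e3_fix hexp (smul_e3 hg _), h2]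
    · rintro ⟨⟨a, ha⟩, ⟨b, hb⟩⟩
      have e1 : e3 g (a + b) = a := by rw [e3_add, e3_fix hexp ha.2, hb.2, add_zero]
      refine Prod.ext (Subtype.ext e1) (Subtype.ext ?_)
      show a + b + e3 g (a + b) = b
      rw [e1, add_comm a b, add_assoc, h2, add_zero]
    · rintro ⟨u, hu⟩
      refine Subtype.ext ?_
      show e3 g u + (u + e3 g u) = u
      rw [add_comm u, ← add_assoc, h2, zero_add]
  have hC0 : Nat.card C0 = Nat.card {u : U // z • u = u ∧ g • u = u} := rfl
  have hV4 : Nat.card V ≤ 4 := by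
    rw [hC, ← hC0, mul_comm 4] at hle
    exact Nat.le_of_mul_le_mul_left hle Nat.card_pos
  -- four elements of `V`
  have hgv : g • v ≠ v := by
    intro h3
    exact hne ((e3_fix hexp h3).symm.trans hv0)
  have hVs : (V : Set U) = {0, v, g • v, g • g • v} := by
    symm
    refine Set.eq_of_subset_of_ncard_le ?_ ?_ (Set.toFinite _)
    · rintro u (rfl | rfl | rfl | rfl)
      · exact V.zero_mem
      · exact ⟨hv, hv0⟩
      · refine ⟨by rw [hc, hv], ?_⟩
        have h3 : g • e3 g v = e3 g (g • v) := by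
          unfold e3
          rw [smul_add, smul_add]
        rw [← h3, hv0, smul_zero]
      · refine ⟨by rw [hc, hc, hv], ?_⟩
        have h3 : g • g • e3 g v = e3 g (g • g • v) := by
          unfold e3
          rw [smul_add, smul_add, smul_add, smul_add]
        rw [← h3, hv0, smul_zero, smul_zero]
    · have h4 : (V : Set U).ncard = Nat.card V := rfl
      rw [h4]
      refine hV4.trans (le_of_eq ?_)
      have hgg : g • g • v ≠ g • v := fun h3 => hgv (MulAction.injective g h3)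
      have hggv : g • g • v ≠ v := by
        intro h3
        apply hgv
        have h4 := hg3 v
        rw [h3] at h4
        exact h4
      have hgv0 : g • v ≠ 0 := fun h3 => hne ((smul_eq_zero_iff_eq g).1 h3)
      have hggv0 : g • g • v ≠ 0 := fun h3 => hgv0 ((smul_eq_zero_iff_eq g).1 h3)
      rw [Set.ncard_insert_of_notMem, Set.ncard_insert_of_notMem, Set.ncard_pair hgg.symm]
      · rintro (h3 | h3)
        · exact hgv h3.symm
        · exact hggv (Set.mem_singleton_iff.1 h3).symm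
      · rintro (h3 | h3 | h3)
        · exact hne h3.symm
        · exact hgv0 h3.symm
        · exact hggv0 (Set.mem_singleton_iff.1 h3).symm
  have hVT : ∀ u ∈ V, u ∈ T := by
    intro u hu
    have h3 : u ∈ (V : Set U) := hu
    rw [hVs] at h3
    rcases h3 with rfl | rfl | rfl | rfl
    · exact T.zero_mem
    · exact hvT
    · exact hgT _ hvT
    · exact hgT _ (hgT _ hvT)
  -- `v` is in the radical
  apply hne
  refine S.nd v fun u => ?_
  rw [← B_e3 S hv u]
  set c := e3 z u with hcdef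
  have hcz : z • c = c := smul_e3 hz u
  have e1 : c = e3 g c + (c + e3 g c) := by
    rw [add_comm c, ← add_assoc, h2, zero_add]
  rw [e1, S.addr]
  have e2 : B v (c + e3 g c) = 0 := by
    refine hiso v hvT _ (hVT _ ⟨?_, ?_⟩)
    · rw [smul_add, hcz]
      congr 1
      unfold e3
      rw [smul_add, smul_add, hc, hc, hc, hcz]
    · rw [e3_add, e3_fix hexp (smul_e3 hg _), h2]
  rw [e2, add_zero]
  -- `B v c0 = B (e3 g v) c0`
  have h5 : g • e3 g c = e3 g c := smul_e3 hg _
  have h6 := B_e3 S h5 v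
  rw [hv0, Cfsg.Agent.H921.NX.B_zero_right S] at h6
  rw [Cfsg.Agent.H921.NX.B_swap S, ← h6, neg_zero]

/-- **invariant isotropic subspaces** -/
theorem T_lemma (S : SX (U := U) 3 q₀ 2 n X B) {x y : Y} (hx : x ^ 3 = 1) (hy : y ^ 3 = 1) (hxy : x * y = y * x)
    (h1 : Nat.card {u : U // x • u = u} ≤ 4 * Nat.card {u : U // x • u = u ∧ y • u = u})
    (h2 : Nat.card {u : U // y • u = u} ≤ 4 * Nat.card {u : U // x • u = u ∧ y • u = u})
    (h3 : Nat.card {u : U // (x * y) • u = u} ≤ 4 * Nat.card {u : U // x • u = u ∧ y • u = u})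
    (h4 : Nat.card {u : U // (x * y⁻¹) • u = u} ≤ 4 * Nat.card {u : U // x • u = u ∧ y • u = u}) {T : AddSubgroup U}
    (hiso : ∀ u ∈ T, ∀ v ∈ T, B u v = 0) (hxT : ∀ t ∈ T, x • t ∈ T) (hyT : ∀ t ∈ T, y • t ∈ T)
    (hT : Nat.card {u : U // x • u = u ∧ y • u = u} ≤ Nat.card T) : T = ⊥ := by
  classical
  have hexp := S.exp
  have h22 : ∀ u : U, u + u = 0 := fun u => by have := hexp u; rwa [two_smul] at this
  obtain ⟨k1, k2, k3, k4, k5, k6, k7⟩ := four_sums (U := U) hexp hx hy hxy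
  have hc : ∀ u : U, x • y • u = y • x • u := fun u => by rw [← mul_smul, hxy, mul_smul]
  have he3T : ∀ z : Y, (∀ t ∈ T, z • t ∈ T) → ∀ t ∈ T, e3 z t ∈ T := fun z hz t ht =>
    T.add_mem (T.add_mem ht (hz _ ht)) (hz _ (hz _ ht))
  have hyiT : ∀ t ∈ T, y⁻¹ • t ∈ T := by
    intro t ht
    have h5 : y⁻¹ = y * y := by
      rw [inv_eq_iff_mul_eq_one, ← pow_two, ← pow_succ', hy]
    rw [h5, mul_smul]
    exact hyT _ (hyT _ ht)
  have hxyT : ∀ t ∈ T, (x * y) • t ∈ T := fun t ht => by rw [mul_smul]; exact hxT _ (hyT _ ht)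
  have hxyT' : ∀ t ∈ T, (x * y⁻¹) • t ∈ T := fun t ht => by rw [mul_smul]; exact hxT _ (hyiT _ ht)
  have hcm : Commute x y := hxy
  have hxy3 : (x * y) ^ 3 = 1 := by rw [hcm.mul_pow, hx, hy, one_mul]
  have hxy3' : (x * y⁻¹) ^ 3 = 1 := by rw [hcm.inv_right.mul_pow, inv_pow, hx, hy, inv_one, one_mul]
  -- the fixed points of `P`
  have hP1 : ∀ u : U, x • e3 x (e3 y u) = e3 x (e3 y u) := fun u => smul_e3 hx _
  have hP2 : ∀ u : U, y • e3 x (e3 y u) = e3 x (e3 y u) := fun u => by rw [k1]; exact smul_e3 hy _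
  have hPz : ∀ (z : Y) (u : U), z • e3 x (e3 y u) = e3 x (e3 y u) → e3 z (e3 x (e3 y u)) = e3 x (e3 y u) :=
    fun z u hz => e3_fix hexp hz
  -- one summand vanishes
  have key : ∀ z g : Y, z ^ 3 = 1 → g ^ 3 = 1 → z * g = g * z →
      (Nat.card {u : U // z • u = u} ≤ 4 * Nat.card {u : U // z • u = u ∧ g • u = u}) → (∀ t ∈ T, z • t ∈ T) →
      (∀ t ∈ T, g • t ∈ T) → (∀ u : U, e3 g (e3 z u) = e3 x (e3 y u)) →
      (∀ u : U, z • e3 x (e3 y u) = e3 x (e3 y u)) → (∀ u : U, g • e3 x (e3 y u) = e3 x (e3 y u)) →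
      ∀ t ∈ T, e3 z t = e3 x (e3 y t) := by
    intro z g hz hg hzg hle hzT hgT hgz hzP hgP t ht
    have h5 : e3 z t + e3 x (e3 y t) = 0 := by
      refine T_step S hz hg hzg hle hiso hgT (T.add_mem (he3T z hzT t ht) (he3T x hxT _ (he3T y hyT t ht))) ?_ ?_
      · rw [smul_add, smul_e3 hz, hzP]
      · rw [e3_add, hgz, e3_fix hexp (hgP t), h22]
    have h6 := h22 (e3 x (e3 y t))
    exact add_right_cancel (h5.trans h6.symm)
  have hcongr : ∀ z g : Y, (∀ u : U, (z • u = u ∧ g • u = u) ↔ (x • u = u ∧ y • u = u)) →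
      Nat.card {u : U // z • u = u ∧ g • u = u} = Nat.card {u : U // x • u = u ∧ y • u = u} :=
    fun z g h => Nat.card_congr (Equiv.subtypeEquivRight h)
  have a1 := key x y hx hy hxy h1 hxT hyT (fun u => (k1 u).symm) hP1 hP2
  have a2 := key y x hy hx hxy.symm (by rw [hcongr y x fun u => and_comm]; exact h2) hyT hxT (fun u => rfl) hP2 hP1
  have hxyP : ∀ u : U, (x * y) • e3 x (e3 y u) = e3 x (e3 y u) := fun u => by rw [mul_smul, hP2, hP1]
  have hxyP' : ∀ u : U, (x * y⁻¹) • e3 x (e3 y u) = e3 x (e3 y u) := fun u => by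
    rw [mul_smul, fix_zpowers (hP2 u), hP1]
  have a3 := key (x * y) x hxy3 hx (by rw [mul_assoc, ← hxy]) (by
    rw [hcongr (x * y) x fun u => ?_]
    · exact h3
    · constructor
      · rintro ⟨h5, h6⟩
        refine ⟨h6, ?_⟩
        rw [mul_smul, hc, h6] at h5
        exact h5
      · rintro ⟨h5, h6⟩
        exact ⟨by rw [mul_smul, h6, h5], h5⟩) hxyT hxT k2 hxyP hP1
  have a4 := key (x * y⁻¹) x hxy3' hx (by rw [mul_assoc]; congr 1; exact (hcm.inv_right).eq.symm) (by
    rw [hcongr (x * y⁻¹) x fun u => ?_]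
    · exact h4
    · constructor
      · rintro ⟨h5, h6⟩
        refine ⟨h6, ?_⟩
        have h7 : (x * y⁻¹) • u = y⁻¹ • x • u := by rw [hcm.inv_right.eq, mul_smul]
        rw [h7, h6, inv_smul_eq_iff] at h5
        exact h5.symm
      · rintro ⟨h5, h6⟩
        exact ⟨by rw [mul_smul, fix_zpowers h6, h5], h5⟩) hxyT' hxT k4 hxyP' hP1
  -- `T` is fixed
  have hfix : ∀ t ∈ T, e3 x (e3 y t) = t := by
    intro t ht
    have h5 := k7 t
    have b1 := a1 t ht
    have b2 := a2 t ht
    have b3 := a3 t ht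
    have b4 := a4 t ht
    generalize e3 x (e3 y t) = c at *
    rw [b1, b2, b3, b4, h22, zero_add, h22] at h5
    exact (add_right_cancel (h5.symm.trans (h22 c).symm)).symm
  -- `T = C_U(P)`
  have hsub : (T : Set U) ⊆ {u : U | x • u = u ∧ y • u = u} := by
    intro t ht
    rw [← hfix t ht]
    exact ⟨hP1 t, hP2 t⟩
  have heq : (T : Set U) = {u : U | x • u = u ∧ y • u = u} :=
    Set.eq_of_subset_of_ncard_le hsub (by
      have e1 : (T : Set U).ncard = Nat.card T := rfl
      have e2 : {u : U | x • u = u ∧ y • u = u}.ncard = Nat.card {u : U // x • u = u ∧ y • u = u} := rfl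
      rw [e1, e2]
      exact hT)
  rw [AddSubgroup.eq_bot_iff_forall]
  intro t ht
  refine S.nd t fun u => ?_
  have ht' : x • t = t ∧ y • t = t := hsub ht
  rw [← B_e3 S ht'.2 u, ← B_e3 S ht'.1]
  refine hiso t ht _ ?_
  rw [← SetLike.mem_coe, heq]
  exact ⟨hP1 u, hP2 u⟩

end

section
variable {p q q₀ n : ℕ} {G W Y U : Type*} [Group G] [Finite G] [AddCommGroup W] [Finite W]
    [DistribMulAction G W] [Group Y] [Finite Y] [AddCommGroup U] [Finite U] [DistribMulAction Y U]
    {L Z : Subgroup G} {π : G →* Y} {a : L →* Multiplicative U} {X : Subgroup Y}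

/-- a vector with large `T_w` -/
theorem exists_big {B : U → U → ZMod 2} (S : SX (U := U) p q₀ 2 n X B) (h : LB (W := W) p q 2 n L Z π a B) {Q : ℕ}
    (hQ : Nat.card W = Q ^ (2 ^ n)) (hQ1 : 1 < Q) : ∃ w : W, w ≠ 0 ∧ 2 ^ (n - 1) ≤ Nat.card (Tw L a w) := by
  have hn := S.hn
  have hx := h.lx
  have := hx.nt
  obtain ⟨F, i1, i2, i3, D⟩ := Cfsg.Agent.H684.GW.exists_FD (W := W) hx.nL hx.irr
  obtain ⟨T, E, g⟩ := exists_good h D S hQ (n - 1) (by omega)
  have hE : 1 < Nat.card E := by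
    rw [g.cE]
    exact Nat.one_lt_pow (by positivity) hQ1
  have : Nontrivial E := Finite.one_lt_card_iff_nontrivial.1 hE
  obtain ⟨w, hw⟩ := exists_ne (0 : E)
  refine ⟨w, fun h0 => hw (Subtype.ext h0), ?_⟩
  rw [← g.cT]
  refine Nat.card_le_card_of_injective (fun t : T => (⟨t, ?_⟩ : Tw L a (w : W))) ?_
  · obtain ⟨l, hl⟩ : ∃ l : L, Multiplicative.toAdd (a l) = t :=
      ⟨Cfsg.Agent.H20.GWX.rep h.lx t, by rw [Cfsg.Agent.H20.GWX.a_rep h.lx D]; rfl⟩
    obtain ⟨c, hc⟩ := g.sc l (by rw [hl]; exact t.2)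
    exact (Cfsg.Agent.H921.NX.mem_Tw D).2 ⟨l, hl, c, hc w w.2⟩
  · intro m m' hmm
    exact Subtype.ext (congrArg (fun z : Tw L a (w : W) => (z : U)) hmm)

end

end Cfsg.Agent.H302.RIM
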