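import Cfsg.Agent.H662.GW.Defs
import Cfsg.Agent.H437.RIM.NumP

/-!
# S4816, layer (B), `q = p = 3`: consequences of the counting inequality for `n = 4, 5` (helper302)
-/

set_option autoImplicit false

namespace Cfsg.Agent.H302.RIM

open Cfsg.Agent.H662.GW

/-- `3 ^ e ≤ 4 ^ j * M` -/
theorem ineq_pow {n j f M e : ℕ} (hf : 1 ≤ f) (he : 2 ^ n + 2 * 2 ^ (n - j) + 3 * e ≤ 3 * 2 ^ n + 2)
    (hI : Ineq 3 2 n j (3 ^ f) M) : 3 ^ e ≤ 2 ^ (2 * j) * M := by
  obtain ⟨k, hk, hI⟩ := hI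
  have hk' : 3 * k ≤ 2 ^ n + 2 * 2 ^ (n - j) := hk
  have hke : k + e ≤ 2 ^ n := by omega
  have h1 : (3 ^ f) ^ (2 ^ n) = (3 ^ f) ^ k * (3 ^ f) ^ (2 ^ n - k) := by
    rw [← pow_add]
    congr 1
    omega
  rw [h1, mul_assoc] at hI
  have h2 := Nat.le_of_mul_le_mul_left hI (by positivity)
  refine le_trans ?_ h2
  calc 3 ^ e ≤ 3 ^ (2 ^ n - k) := Nat.pow_le_pow_right (by norm_num) (by omega)
    _ ≤ (3 ^ f) ^ (2 ^ n - k) := Nat.pow_le_pow_left (Nat.le_self_pow (by omega) 3) _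

theorem num_four {f j M : ℕ} (hf : 1 ≤ f) (hj : 1 ≤ j) (hj4 : j ≤ 4) (hI : Ineq 3 2 4 j (3 ^ f) M) : 183 ≤ M := by
  have h : j = 1 ∨ j = 2 ∨ j = 3 ∨ j = 4 := by omega
  rcases h with rfl | rfl | rfl | rfl
  · have := ineq_pow (e := 6) hf (by norm_num) hI
    norm_num at this
    omega
  · have := ineq_pow (e := 8) hf (by norm_num) hI
    norm_num at this
    omega
  · have := ineq_pow (e := 10) hf (by norm_num) hI
    norm_num at this
    omega
  · have := ineq_pow (e := 10) hf (by norm_num) hI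
    norm_num at this
    omega

theorem num_five {f j M : ℕ} (hf : 1 ≤ f) (hj : 2 ≤ j) (hj5 : j ≤ 5) (hI : Ineq 3 2 5 j (3 ^ f) M) : 2690420 ≤ M := by
  have h : j = 2 ∨ j = 3 ∨ j = 4 ∨ j = 5 := by omega
  rcases h with rfl | rfl | rfl | rfl
  · have := ineq_pow (e := 16) hf (by norm_num) hI
    norm_num at this
    omega
  · have := ineq_pow (e := 19) hf (by norm_num) hI
    norm_num at this
    omega
  · have := ineq_pow (e := 20) hf (by norm_num) hI
    norm_num at this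
    omega
  · have := ineq_pow (e := 21) hf (by norm_num) hI
    norm_num at this
    omega

theorem num_five_one {f j M : ℕ} (hf : 1 ≤ f) (hj : 1 ≤ j) (hj5 : j ≤ 5) (hI : Ineq 3 2 5 j (3 ^ f) M) : 44287 ≤ M := by
  rcases Nat.lt_or_ge j 2 with h | h
  · obtain rfl : j = 1 := by omega
    have := ineq_pow (e := 11) hf (by norm_num) hI
    norm_num at this
    omega
  · have := num_five hf h hj5 hI
    omega

end Cfsg.Agent.H302.RIM
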