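import Cfsg.Agent.H302.RIM.Five
import Cfsg.Agent.H302.RIM.TLem
import Cfsg.Agent.H302.RIM.ThreeNum
import Cfsg.Agent.H20.NX.BData
import Cfsg.Agent.H960.RIM.SurvThree
import Cfsg.Agent.H234.RIM.Conj
import Cfsg.Agent.H234.RIM.Nine

/-!
# S4816, layer (B), `p = 3`: the survivors (helper302)

`false_three` : `SP 3 2 n f X B`, `LP`, `n ≤ 5`, `X ≤ Z(Y)`, `Y / X` in the list `Surv 3` are contradictory.
-/

set_option autoImplicit false
set_option linter.unusedSectionVars false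

open Subgroup

namespace Cfsg.Agent.H302.RIM

open Cfsg.Agent.H586.NX Cfsg.Agent.H473.NX Cfsg.Agent.H994.NX Cfsg.Agent.H263.RIM

section grp

variable {Y : Type*} [Group Y] [Finite Y] {X : Subgroup Y}

/-- two commuting elements of order `3` -/
theorem exists_nine {x y : Y} (hx : orderOf x = 3) (hy : orderOf y = 3) (hxy : x * y = y * x) (hne : y ∉ zpowers x) :
    ∃ A : Subgroup Y, Nat.card A = 9 ∧ x ∈ A ∧ y ∈ A ∧ ∀ a ∈ A, ∀ b ∈ A, a * b = b * a := by
  have hp : Nat.Prime 3 := Nat.prime_three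
  have hcomm : ∀ (a : zpowers x) (b : zpowers y), Commute ((zpowers x).subtype a) ((zpowers y).subtype b) := by
    rintro ⟨a, ha⟩ ⟨b, hb⟩
    obtain ⟨i, rfl⟩ := mem_zpowers_iff.1 ha
    obtain ⟨j, rfl⟩ := mem_zpowers_iff.1 hb
    exact ((show Commute x y from hxy).zpow_left i).zpow_right j
  let φ : zpowers x × zpowers y →* Y := MonoidHom.noncommCoprod (zpowers x).subtype (zpowers y).subtype hcomm
  have hφ : ∀ a b, φ (a, b) = (a : Y) * b := fun a b => rfl
  have hinj : Function.Injective φ := by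
    rw [← MonoidHom.ker_eq_bot_iff, eq_bot_iff]
    rintro ⟨⟨a, ha⟩, ⟨b, hb⟩⟩ hab
    rw [MonoidHom.mem_ker, hφ] at hab
    have hab' : a * b = 1 := hab
    have hb1 : b = 1 := by
      by_contra hb1
      apply hne
      have h1 : b ∈ zpowers x := by
        rw [← inv_eq_of_mul_eq_one_right hab']
        exact inv_mem ha
      have h2 : zpowers b = zpowers y := by
        apply eq_of_le_of_card_ge (zpowers_le.2 hb)
        have h3 : orderOf b = 3 := by
          have h4 : orderOf b ∣ 3 := by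
            rw [← hy]
            exact orderOf_dvd_of_mem_zpowers hb
          rcases (Nat.dvd_prime hp).1 h4 with h5 | h5
          · exact absurd (orderOf_eq_one_iff.1 h5) hb1
          · exact h5
        rw [Nat.card_zpowers, Nat.card_zpowers, h3, hy]
      have h3 : y ∈ zpowers b := by
        rw [h2]
        exact mem_zpowers y
      exact (zpowers_le.2 h1) h3
    subst hb1
    rw [mul_one] at hab'
    subst hab'
    exact (mem_bot).2 rfl
  refine ⟨φ.range, ?_, ⟨(⟨x, mem_zpowers x⟩, 1), by rw [hφ]; exact mul_one x⟩,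
    ⟨(1, ⟨y, mem_zpowers y⟩), by rw [hφ]; exact one_mul y⟩, ?_⟩
  · have h1 := Nat.card_congr (MonoidHom.ofInjective hinj).toEquiv
    rw [← h1, Nat.card_prod, Nat.card_zpowers, Nat.card_zpowers, hx, hy]
  · rintro _ ⟨a, rfl⟩ _ ⟨b, rfl⟩
    rw [← map_mul, ← map_mul]
    congr 1
    obtain ⟨⟨a1, ha1⟩, ⟨a2, ha2⟩⟩ := a
    obtain ⟨⟨b1, hb1⟩, ⟨b2, hb2⟩⟩ := b
    obtain ⟨i, rfl⟩ := mem_zpowers_iff.1 ha1
    obtain ⟨j, rfl⟩ := mem_zpowers_iff.1 ha2
    obtain ⟨i', rfl⟩ := mem_zpowers_iff.1 hb1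
    obtain ⟨j', rfl⟩ := mem_zpowers_iff.1 hb2
    refine Prod.ext (Subtype.ext ?_) (Subtype.ext ?_)
    · exact (Commute.refl x).zpow_zpow i i'
    · exact (Commute.refl y).zpow_zpow j j'

/-- the index of the centralizer -/
theorem index_nine [X.Normal] (hX : X ≤ center Y) (h3 : ¬ 3 ∣ Nat.card X) {z : Y}
    (h9 : 9 ∣ Nat.card (centralizer ({z} : Set Y))) :
    (centralizer ({z} : Set Y)).index * 9 ≤ Nat.card (Y ⧸ X) := by
  have h1 : X ≤ centralizer ({z} : Set Y) := hX.trans (center_le_centralizer _)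
  have h2 : 9 * Nat.card X ∣ Nat.card (centralizer ({z} : Set Y)) := by
    refine Nat.Coprime.mul_dvd_of_dvd_of_dvd ?_ h9 (card_dvd_of_le h1)
    have h4 : Nat.Coprime 3 (Nat.card X) := (Nat.Prime.coprime_iff_not_dvd Nat.prime_three).2 h3
    exact Nat.Coprime.pow_left 2 h4
  have h3 := Nat.le_of_dvd Nat.card_pos h2
  have h4 := (centralizer ({z} : Set Y)).card_mul_index
  have h5 := card_eq_card_quotient_mul_card_subgroup X
  have h6 : (centralizer ({z} : Set Y)).index * 9 * Nat.card X ≤ Nat.card (Y ⧸ X) * Nat.card X := by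
    calc _ = (9 * Nat.card X) * (centralizer ({z} : Set Y)).index := by ring
      _ ≤ Nat.card (centralizer ({z} : Set Y)) * (centralizer ({z} : Set Y)).index := Nat.mul_le_mul_right _ h3
      _ = _ := by rw [h4, h5]
  exact Nat.le_of_mul_le_mul_right h6 Nat.card_pos

/-- elements with trivial cube are determined by their images -/
theorem eq_of_mk [X.Normal] (hX : X ≤ center Y) (h3 : ¬ 3 ∣ Nat.card X) {a b : Y} (ha : a ^ 3 = 1) (hb : b ^ 3 = 1)
    (hab : (a : Y ⧸ X) = b) : a = b := by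
  have h1 : b⁻¹ * a ∈ X := QuotientGroup.eq.1 hab.symm
  obtain ⟨z, hz⟩ : ∃ z, z = b⁻¹ * a := ⟨_, rfl⟩
  rw [← hz] at h1
  have h2 : a = b * z := by rw [hz, mul_inv_cancel_left]
  have h4 : Commute b z := (mem_center_iff.1 (hX h1) b)
  have h5 : z ^ 3 = 1 := by
    have h6 : (b * z) ^ 3 = 1 := h2 ▸ ha
    rwa [h4.mul_pow, hb, one_mul] at h6
  have h6 : z = 1 := by
    have h7 : orderOf z ∣ 3 := orderOf_dvd_of_pow_eq_one h5
    rcases (Nat.dvd_prime Nat.prime_three).1 h7 with h8 | h8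
    · exact orderOf_eq_one_iff.1 h8
    · exfalso
      apply h3
      have h9 := orderOf_dvd_natCard (⟨z, h1⟩ : X)
      rwa [Subgroup.orderOf_mk, h8] at h9
  rw [h2, h6, mul_one]

theorem mk_order [X.Normal] (h3 : ¬ 3 ∣ Nat.card X) {a : Y} (ha : orderOf a = 3) : orderOf (a : Y ⧸ X) = 3 := by
  have h1 : orderOf (a : Y ⧸ X) ∣ 3 := ha ▸ orderOf_map_dvd (QuotientGroup.mk' X) a
  rcases (Nat.dvd_prime Nat.prime_three).1 h1 with h2 | h2
  · exfalso
    have h4 : a ∈ X := (QuotientGroup.eq_one_iff a).1 (orderOf_eq_one_iff.1 h2)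
    apply h3
    have h9 := orderOf_dvd_natCard (⟨a, h4⟩ : X)
    rwa [Subgroup.orderOf_mk, ha] at h9
  · exact h2

theorem exists_lift3 [X.Normal] (h3 : ¬ 3 ∣ Nat.card X) {a : Y ⧸ X} (ha : orderOf a = 3) :
    ∃ x : Y, orderOf x = 3 ∧ (x : Y ⧸ X) = a := by
  have hf : Fact (Nat.Prime 3) := ⟨Nat.prime_three⟩
  obtain ⟨x, hx, hxa⟩ := Cfsg.Agent.H20.NX.exists_lift_order (QuotientGroup.mk' X) (by rwa [QuotientGroup.ker_mk'])
    (QuotientGroup.mk'_surjective X) ha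
  exact ⟨x, hx, hxa⟩

/-- lifting two commuting elements -/
theorem lift_pair [X.Normal] (hX : X ≤ center Y) (h3 : ¬ 3 ∣ Nat.card X) {a b : Y ⧸ X} (ha : orderOf a = 3)
    (hb : orderOf b = 3) (hab : a * b = b * a) (hne : b ∉ zpowers a) :
    ∃ x y : Y, orderOf x = 3 ∧ orderOf y = 3 ∧ x * y = y * x ∧ y ∉ zpowers x ∧ (x : Y ⧸ X) = a ∧ (y : Y ⧸ X) = b := by
  obtain ⟨x, hx, rfl⟩ := exists_lift3 h3 ha
  obtain ⟨y, hy, rfl⟩ := exists_lift3 h3 hb
  have hx3 := orderOf_three hx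
  have hy3 := orderOf_three hy
  refine ⟨x, y, hx, hy, ?_, ?_, rfl, rfl⟩
  · have h1 : x * y * x⁻¹ = y := by
      refine eq_of_mk hX h3 ?_ hy3 ?_
      · rw [conj_pow, hy3, mul_one, mul_inv_cancel]
      · rw [QuotientGroup.mk_mul, QuotientGroup.mk_mul, QuotientGroup.mk_inv, hab, mul_inv_cancel_right]
    rw [mul_inv_eq_iff_eq_mul] at h1
    exact h1
  · intro h1
    apply hne
    obtain ⟨k, hk⟩ := mem_zpowers_iff.1 h1
    rw [← hk, QuotientGroup.mk_zpow]
    exact zpow_mem (mem_zpowers _) k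

end grp

section

variable {q₀ n f : ℕ} {G W Y U : Type*} [Group G] [Finite G] [AddCommGroup W] [Finite W]
    [DistribMulAction G W] [Group Y] [Finite Y] [AddCommGroup U] [Finite U] [DistribMulAction Y U]
    {L Z : Subgroup G} {π : G →* Y} {a : L →* Multiplicative U} {X : Subgroup Y}

theorem card_fix_inv (y : Y) : Nat.card {u : U // y⁻¹ • u = u} = Nat.card {u : U // y • u = u} := by
  refine Nat.card_congr (Equiv.subtypeEquivRight fun u => ?_)
  rw [inv_smul_eq_iff, eq_comm]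

/-- the vectors `w` and the types `(|C(z)| ≤ 4 |C(P)|)` -/
theorem no_type {B : U → U → ZMod 2} (S : SX (U := U) 3 q₀ 2 n X B) (h : LB (W := W) 3 3 2 n L Z π a B) {Q : ℕ}
    (hQ : Nat.card W = Q ^ (2 ^ n)) (hQ1 : 1 < Q) (hn : 2 ≤ n) {x y : Y} (hx : orderOf x = 3) (hy : orderOf y = 3)
    (hxy : x * y = y * x) (hne : y ∉ zpowers x)
    (h1 : Nat.card {u : U // x • u = u} ≤ 4 * Nat.card {u : U // x • u = u ∧ y • u = u})
    (h2 : Nat.card {u : U // y • u = u} ≤ 4 * Nat.card {u : U // x • u = u ∧ y • u = u})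
    (h3 : Nat.card {u : U // (x * y) • u = u} ≤ 4 * Nat.card {u : U // x • u = u ∧ y • u = u})
    (h4 : Nat.card {u : U // (x * y⁻¹) • u = u} ≤ 4 * Nat.card {u : U // x • u = u ∧ y • u = u})
    (hc : Nat.card {u : U // x • u = u ∧ y • u = u} ≤ 2 ^ (n - 1)) : False := by
  have hf : Fact (Nat.Prime 3) := ⟨Nat.prime_three⟩
  obtain ⟨w, hw, hwc⟩ := exists_big S h hQ hQ1
  obtain ⟨T, hT, hiso, hinv⟩ := Cfsg.Agent.H921.NX.exists_T h hw
  obtain ⟨P, hP⟩ := exists_sylow Nat.prime_three h w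
  have hTP : ∀ m ∈ (P : Subgroup Y), ∀ t ∈ T, m • t ∈ T := by
    intro m hm t ht
    obtain ⟨g, hg, rfl⟩ := hP m hm
    exact hinv g hg t ht
  have hTc : 2 ^ (n - 1) ≤ Nat.card T := by
    refine hwc.trans (le_of_eq ?_)
    rw [← hT]
    rfl
  obtain ⟨A, hA, hxA, hyA, -⟩ := exists_nine hx hy hxy hne
  have hA3 : IsPGroup 3 A := IsPGroup.of_card (n := 2) (by rw [hA]; norm_num)
  obtain ⟨P₁, hP₁⟩ := hA3.exists_le_sylow
  obtain ⟨g, hg⟩ := MulAction.exists_smul_eq Y P₁ P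
  have hmem : ∀ z ∈ A, g * z * g⁻¹ ∈ (P : Subgroup Y) := by
    intro z hz
    rw [← hg]
    exact ⟨z, hP₁ hz, rfl⟩
  have hx3 := orderOf_three hx
  have hy3 := orderOf_three hy
  have hxi : (g * x * g⁻¹) * (g * y * g⁻¹)⁻¹ = g * (x * y⁻¹) * g⁻¹ := by group
  have hxm : (g * x * g⁻¹) * (g * y * g⁻¹) = g * (x * y) * g⁻¹ := by group
  have hcom : Nat.card {u : U // (g * x * g⁻¹) • u = u ∧ (g * y * g⁻¹) • u = u} =
      Nat.card {u : U // x • u = u ∧ y • u = u} := by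
    refine Nat.card_congr ⟨fun u => ⟨g⁻¹ • u.1, ?_⟩, fun u => ⟨g • u.1, ?_⟩, fun u => ?_, fun u => ?_⟩
    · obtain ⟨h5, h6⟩ := u.2
      rw [mul_smul, mul_smul] at h5 h6
      exact ⟨by rw [eq_inv_smul_iff, h5], by rw [eq_inv_smul_iff, h6]⟩
    · obtain ⟨h5, h6⟩ := u.2
      exact ⟨by rw [mul_smul, mul_smul, inv_smul_smul, h5], by rw [mul_smul, mul_smul, inv_smul_smul, h6]⟩
    · exact Subtype.ext (smul_inv_smul g u.1)
    · exact Subtype.ext (inv_smul_smul g u.1)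
  have h0 := T_lemma (T := T) S (x := g * x * g⁻¹) (y := g * y * g⁻¹) (by rw [conj_pow, hx3, mul_one, mul_inv_cancel])
    (by rw [conj_pow, hy3, mul_one, mul_inv_cancel]) (by rw [hxm, hxy]; group)
    (by rw [hcom, card_fix_conj]; exact h1) (by rw [hcom, card_fix_conj]; exact h2)
    (by rw [hcom, hxm, card_fix_conj]; exact h3) (by rw [hcom, hxi, card_fix_conj]; exact h4) hiso
    (hTP _ (hmem x hxA)) (hTP _ (hmem y hyA)) (by rw [hcom]; exact hc.trans hTc)
  rw [h0, AddSubgroup.card_bot] at hTc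
  have h5 : 2 ^ 1 ≤ 2 ^ (n - 1) := Nat.pow_le_pow_right (by norm_num) (by omega)
  omega

/-- Wielandt's formula with exponents -/
theorem wie_exp {B : U → U → ZMod 2} (S : SX (U := U) 3 q₀ 2 n X B) {x y : Y} (hx : orderOf x = 3) (hy : orderOf y = 3)
    (hxy : x * y = y * x) (hne : y ∉ zpowers x) :
    ∃ j1 j2 j3 j4 k : ℕ, (1 ≤ j1 ∧ 1 ≤ j2 ∧ 1 ≤ j3 ∧ 1 ≤ j4) ∧ (j1 ≤ n ∧ j2 ≤ n ∧ j3 ≤ n ∧ j4 ≤ n) ∧
      Nat.card {u : U // x • u = u} = 2 ^ (2 * (n - j1)) ∧ Nat.card {u : U // y • u = u} = 2 ^ (2 * (n - j2)) ∧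
      Nat.card {u : U // (x * y) • u = u} = 2 ^ (2 * (n - j3)) ∧
      Nat.card {u : U // (x * y⁻¹) • u = u} = 2 ^ (2 * (n - j4)) ∧
      Nat.card {u : U // x • u = u ∧ y • u = u} = 2 ^ k ∧ 6 * n = 2 * (j1 + j2 + j3 + j4) + 3 * k := by
  obtain ⟨o1, o2⟩ := order_prod hx hy hxy hne
  obtain ⟨j1, a1, b1, c1, -⟩ := exists_fix S hx
  obtain ⟨j2, a2, b2, c2, -⟩ := exists_fix S hy
  obtain ⟨j3, a3, b3, c3, -⟩ := exists_fix S o1
  obtain ⟨j4, a4, b4, c4, -⟩ := exists_fix S o2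
  obtain ⟨k, hk⟩ := card_common_pow (U := U) S.exp x y
  refine ⟨j1, j2, j3, j4, k, ⟨a1, a2, a3, a4⟩, ⟨b1, b2, b3, b4⟩, c1, c2, c3, c4, hk, ?_⟩
  have hw := wielandt (U := U) S.exp x y hx hy hxy hne
  rw [c1, c2, c3, c4, S.card, hk, ← pow_add, ← pow_add, ← pow_add, ← pow_mul, ← pow_add] at hw
  have := Nat.pow_right_injective (le_refl 2) hw
  omega

/-- **the survivors at `3`** -/
theorem false_three {B : U → U → ZMod 2} (h : SP 3 2 n f X B) (hL : LP (W := W) 3 2 n f L Z π a B) (hn5 : n ≤ 5)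
    (hXc : X ≤ center Y) (hXn : X.Normal) (hS : Cfsg.Agent.H325.RIM.Surv 3 (Y ⧸ X)) : False := by
  have hf : Fact (Nat.Prime 3) := ⟨Nat.prime_three⟩
  obtain ⟨q₀, S⟩ := exists_SX' h
  have hQ := hL.card
  have hQ1 : 1 < 3 ^ f := Nat.one_lt_pow (by have := h.hf; omega) (by norm_num)
  have h3X := h.cop
  have hSY : Nat.card (Y ⧸ X) ∣ Nat.card Y := card_quotient_dvd_card X
  have hd : Nat.card (Y ⧸ X) ∣ Cfsg.Agent.H37.NW.P 2 n := hSY.trans (card_dvd S)
  have hcen : ∀ {A : Subgroup Y}, Nat.card A = 9 → (∀ a ∈ A, ∀ b ∈ A, a * b = b * a) → ∀ z ∈ A,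
      (centralizer ({z} : Set Y)).index * 9 ≤ Nat.card (Y ⧸ X) := by
    intro A hA hcomm z hz
    refine index_nine hXc h3X ?_
    rw [← hA]
    refine card_dvd_of_le fun b hb => ?_
    rw [mem_centralizer_singleton_iff]
    exact hcomm b hb z hz
  rcases Cfsg.Agent.H960.RIM.surv_three hn5 hd hS with ⟨F, i1, i2, hF, ⟨e⟩⟩ | ⟨F, i1, i2, hF, ⟨e⟩⟩ | hc
  · -- `PSL₂(9)`
    have hF9 : Nat.card F = 9 := by rw [Nat.card_eq_fintype_card, hF]
    obtain ⟨x', y', t', hx', hy', hxy', hne', ht1', ht2'⟩ := Cfsg.Agent.H234.RIM.Nine.psl_two_nine hF9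
    obtain ⟨x, y, hx, hy, hxy, hne, hxe, hye⟩ := lift_pair hXc h3X (a := e.symm x') (b := e.symm y')
      (by rw [MulEquiv.orderOf_eq, hx']) (by rw [MulEquiv.orderOf_eq, hy']) (by rw [← map_mul, hxy', map_mul])
      (by
        intro h1
        apply hne'
        obtain ⟨k, hk⟩ := mem_zpowers_iff.1 h1
        rw [← map_zpow] at hk
        rw [← e.symm.injective hk]
        exact zpow_mem (mem_zpowers _) k)
    obtain ⟨t, ht⟩ := QuotientGroup.mk_surjective (e.symm t')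
    have hx3 := orderOf_three hx
    have hy3 := orderOf_three hy
    have ht1 : t * x * t⁻¹ = y := by
      refine eq_of_mk hXc h3X (by rw [conj_pow, hx3, mul_one, mul_inv_cancel]) hy3 ?_
      rw [QuotientGroup.mk_mul, QuotientGroup.mk_mul, QuotientGroup.mk_inv, ht, hxe, hye, ← map_inv, ← map_mul, ← map_mul,
        ht1']
    have ht2 : t * y * t⁻¹ = x⁻¹ := by
      refine eq_of_mk hXc h3X (by rw [conj_pow, hy3, mul_one, mul_inv_cancel]) (by rw [inv_pow, hx3, inv_one]) ?_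
      rw [QuotientGroup.mk_mul, QuotientGroup.mk_mul, QuotientGroup.mk_inv, QuotientGroup.mk_inv, ht, hxe, hye, ← map_inv,
        ← map_mul, ← map_mul, ht2', map_inv]
    have hcard : Nat.card (Y ⧸ X) = 360 := by
      rw [Nat.card_congr e.toEquiv]
      have h1 := Cfsg.Agent.H436.psl_eq (F := F) (n := 2) le_rfl
      rw [hF] at h1
      have h2 : Cfsg.Agent.OrdDiv.fPSL.den 2 9 = 16 := by decide
      have h3 : Cfsg.Agent.OrdDiv.fPSL.num 2 9 = 5760 := by decide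
      rw [h2, h3] at h1
      omega
    obtain ⟨A, hA, hxA, hyA, hcomm⟩ := exists_nine hx hy hxy hne
    have hM := hcen hA hcomm x hxA
    rw [hcard] at hM
    obtain ⟨j1, j2, j3, j4, k, ⟨a1, a2, a3, a4⟩, ⟨b1, b2, b3, b4⟩, c1, c2, c3, c4, hk, hsum⟩ := wie_exp S hx hy hxy hne
    have hI := h.ineq x hx j1 b1 c1
    -- the types
    have e1 : j1 = j2 := by
      have h1 := card_fix_conj (U := U) x t
      rw [ht1, c1, c2] at h1
      have := Nat.pow_right_injective (le_refl 2) h1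
      omega
    have e2 : j3 = j4 := by
      have h1 := card_fix_conj (U := U) (x * y) t
      have h2 : t * (x * y) * t⁻¹ = (x * y⁻¹)⁻¹ := by
        have h4 : t * (x * y) * t⁻¹ = (t * x * t⁻¹) * (t * y * t⁻¹) := by group
        rw [h4, ht1, ht2, mul_inv_rev, inv_inv]
      rw [h2, card_fix_inv, c3, c4] at h1
      have := Nat.pow_right_injective (le_refl 2) h1
      omega
    subst e1 e2
    rcases Nat.lt_or_ge n 4 with hn4 | hn4
    · have hcase : (n = 2 ∧ k = 0 ∧ ((j1 = 1 ∧ j3 = 2) ∨ (j1 = 2 ∧ j3 = 1))) ∨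
          (n = 3 ∧ k = 2 ∧ ((j1 = 1 ∧ j3 = 2) ∨ (j1 = 2 ∧ j3 = 1))) := by
        have : n = 0 ∨ n = 1 ∨ n = 2 ∨ n = 3 := by omega
        omega
      rcases hcase with ⟨rfl, rfl, hj⟩ | ⟨rfl, rfl, hj⟩
      · refine no_type S hL.lb hQ hQ1 le_rfl hx hy hxy hne ?_ ?_ ?_ ?_ ?_
        · rw [c1, hk]
          rcases hj with ⟨rfl, rfl⟩ | ⟨rfl, rfl⟩ <;> norm_num
        · rw [c2, hk]
          rcases hj with ⟨rfl, rfl⟩ | ⟨rfl, rfl⟩ <;> norm_num
        · rw [c3, hk]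
          rcases hj with ⟨rfl, rfl⟩ | ⟨rfl, rfl⟩ <;> norm_num
        · rw [c4, hk]
          rcases hj with ⟨rfl, rfl⟩ | ⟨rfl, rfl⟩ <;> norm_num
        · rw [hk]
          norm_num
      · refine no_type S hL.lb hQ hQ1 (by norm_num) hx hy hxy hne ?_ ?_ ?_ ?_ ?_
        · rw [c1, hk]
          rcases hj with ⟨rfl, rfl⟩ | ⟨rfl, rfl⟩ <;> norm_num
        · rw [c2, hk]
          rcases hj with ⟨rfl, rfl⟩ | ⟨rfl, rfl⟩ <;> norm_num
        · rw [c3, hk]
          rcases hj with ⟨rfl, rfl⟩ | ⟨rfl, rfl⟩ <;> norm_num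
        · rw [c4, hk]
          rcases hj with ⟨rfl, rfl⟩ | ⟨rfl, rfl⟩ <;> norm_num
        · rw [hk]
    · have hn : n = 4 ∨ n = 5 := by omega
      rcases hn with rfl | rfl
      · have := num_four h.hf a1 b1 hI
        omega
      · have := num_five_one h.hf a1 b1 hI
        omega
  · -- `PSL₃(4)`
    have hF4 : Nat.card F = 4 := by rw [Nat.card_eq_fintype_card, hF]
    obtain ⟨x', y', hx', hy', hxy', hne'⟩ := Cfsg.Agent.H234.RIM.Nine.psl_three_four hF4
    obtain ⟨x, y, hx, hy, hxy, hne, hxe, hye⟩ := lift_pair hXc h3X (a := e.symm x') (b := e.symm y')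
      (by rw [MulEquiv.orderOf_eq, hx']) (by rw [MulEquiv.orderOf_eq, hy']) (by rw [← map_mul, hxy', map_mul])
      (by
        intro h1
        apply hne'
        obtain ⟨k, hk⟩ := mem_zpowers_iff.1 h1
        rw [← map_zpow] at hk
        rw [← e.symm.injective hk]
        exact zpow_mem (mem_zpowers _) k)
    have hconj : ∀ b c : Y, orderOf b = 3 → orderOf c = 3 →
        Nat.card {u : U // b • u = u} = Nat.card {u : U // c • u = u} := by
      intro b c hb hc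
      have hb' : orderOf (e (b : Y ⧸ X)) = 3 := by rw [MulEquiv.orderOf_eq, mk_order h3X hb]
      have hc' : orderOf (e (c : Y ⧸ X)) = 3 := by rw [MulEquiv.orderOf_eq, mk_order h3X hc]
      obtain ⟨g', hg'⟩ := isConj_iff.1 (Cfsg.Agent.H234.RIM.Conj.conj_three hF4 _ _ hb' hc')
      obtain ⟨g, hg⟩ := QuotientGroup.mk_surjective (e.symm g')
      have hb3 := orderOf_three hb
      have h1 : g * b * g⁻¹ = c := by
        refine eq_of_mk hXc h3X (by rw [conj_pow, hb3, mul_one, mul_inv_cancel]) (orderOf_three hc) ?_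
        apply e.injective
        rw [QuotientGroup.mk_mul, QuotientGroup.mk_mul, QuotientGroup.mk_inv, hg, map_mul, map_mul, map_inv,
          MulEquiv.apply_symm_apply, hg']
      rw [← h1, card_fix_conj]
    have hcard : Nat.card (Y ⧸ X) = 20160 := by
      rw [Nat.card_congr e.toEquiv]
      have h1 := Cfsg.Agent.H436.psl_eq (F := F) (n := 3) (by norm_num)
      rw [hF] at h1
      have h2 : Cfsg.Agent.OrdDiv.fPSL.den 3 4 = 9 := by decide
      have h3 : Cfsg.Agent.OrdDiv.fPSL.num 3 4 = 181440 := by decide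
      rw [h2, h3] at h1
      omega
    obtain ⟨A, hA, hxA, hyA, hcomm⟩ := exists_nine hx hy hxy hne
    have hM := hcen hA hcomm x hxA
    rw [hcard] at hM
    obtain ⟨j1, j2, j3, j4, k, ⟨a1, a2, a3, a4⟩, ⟨b1, b2, b3, b4⟩, c1, c2, c3, c4, hk, hsum⟩ := wie_exp S hx hy hxy hne
    obtain ⟨o1, o2⟩ := order_prod hx hy hxy hne
    have hI := h.ineq x hx j1 b1 c1
    have e1 : j1 = j2 := by
      have h1 := hconj x y hx hy
      rw [c1, c2] at h1
      have := Nat.pow_right_injective (le_refl 2) h1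
      omega
    have e2 : j1 = j3 := by
      have h1 := hconj x _ hx o1
      rw [c1, c3] at h1
      have := Nat.pow_right_injective (le_refl 2) h1
      omega
    have e3 : j1 = j4 := by
      have h1 := hconj x _ hx o2
      rw [c1, c4] at h1
      have := Nat.pow_right_injective (le_refl 2) h1
      omega
    subst e1 e2 e3
    have hcase : (n = 4 ∧ k = 0 ∧ j1 = 3) ∨ (n = 5 ∧ k = 2 ∧ j1 = 3) := by
      have : n = 0 ∨ n = 1 ∨ n = 2 ∨ n = 3 ∨ n = 4 ∨ n = 5 := by omega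
      omega
    rcases hcase with ⟨rfl, rfl, rfl⟩ | ⟨rfl, rfl, rfl⟩
    · refine no_type S hL.lb hQ hQ1 (by norm_num) hx hy hxy hne ?_ ?_ ?_ ?_ ?_
      · rw [c1, hk]; norm_num
      · rw [c2, hk]; norm_num
      · rw [c3, hk]; norm_num
      · rw [c4, hk]; norm_num
      · rw [hk]
        norm_num
    · have := num_five h.hf (by norm_num) (by norm_num) hI
      omega
  · -- `|S| = 443520`
    have hn5' : n = 5 := by
      rcases Nat.lt_or_ge n 5 with hn4 | hn4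
      · exfalso
        rw [hc] at hd
        have h11 : 11 ∣ Cfsg.Agent.H37.NW.P 2 n := (by norm_num : 11 ∣ 443520).trans hd
        interval_cases n <;> norm_num [Cfsg.Agent.H37.NW.P, Finset.prod_range_succ] at h11
      · omega
    subst hn5'
    have h9 : 9 ∣ Nat.card Y := (by norm_num : 9 ∣ 443520).trans (hc ▸ hSY)
    have key : ∀ {A : Subgroup Y}, Nat.card A = 9 → (∀ a ∈ A, ∀ b ∈ A, a * b = b * a) → ∀ z ∈ A, orderOf z = 3 →
        ∀ j, 2 ≤ j → j ≤ 5 → Nat.card {u : U // z • u = u} = 2 ^ (2 * (5 - j)) → False := by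
      intro A hA hcomm z hz hz3 j hj2 hj5 hfix
      have hM := hcen hA hcomm z hz
      rw [hc] at hM
      have := num_five h.hf hj2 hj5 (h.ineq z hz3 j hj5 hfix)
      omega
    obtain ⟨A, -, ⟨y, -, hy⟩ | ⟨x, -, y, -, hx, hy, hxy, hne⟩⟩ := nine_cases h9
    · obtain ⟨m, hm⟩ := order_nine (U := U) S.exp y (by rw [← hy]; exact pow_orderOf_eq_one y)
      have ho : orderOf (y ^ 3) = 3 := by
        rw [orderOf_pow, hy]
        norm_num
      obtain ⟨j, j1, j2, j3, -⟩ := exists_fix S ho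
      rw [j3, S.card] at hm
      have h2 : (2 : ℕ) ^ (2 * 5) = 2 ^ (2 * (5 - j) + 6 * m) := by
        rw [hm, pow_add, pow_mul 2 6 m]
        norm_num
      have h3 := Nat.pow_right_injective (le_refl 2) h2
      refine key (A := zpowers y) (by rw [Nat.card_zpowers, hy]) ?_ (y ^ 3) (pow_mem (mem_zpowers y) 3) ho j (by omega) j2 j3
      intro b hb c hc
      obtain ⟨i, rfl⟩ := mem_zpowers_iff.1 hb
      obtain ⟨i', rfl⟩ := mem_zpowers_iff.1 hc
      exact (Commute.refl y).zpow_zpow i i'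
    · obtain ⟨A, hA, hxA, hyA, hcomm⟩ := exists_nine hx hy hxy hne
      obtain ⟨j1, j2, j3, j4, k, ⟨a1, a2, a3, a4⟩, ⟨b1, b2, b3, b4⟩, c1, c2, c3, c4, hk, hsum⟩ :=
        wie_exp S hx hy hxy hne
      obtain ⟨o1, o2⟩ := order_prod hx hy hxy hne
      have hcase : 2 ≤ j1 ∨ 2 ≤ j2 ∨ 2 ≤ j3 ∨ 2 ≤ j4 := by omega
      rcases hcase with h2 | h2 | h2 | h2
      · exact key hA hcomm x hxA hx j1 h2 b1 c1
      · exact key hA hcomm y hyA hy j2 h2 b2 c2
      · exact key hA hcomm _ (mul_mem hxA hyA) o1 j3 h2 b3 c3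
      · exact key hA hcomm _ (mul_mem hxA (inv_mem hyA)) o2 j4 h2 b4 c4

end

end Cfsg.Agent.H302.RIM
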